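import Cfsg.Agent.Lib.ClassK.M22Nse.Model
import Cfsg.Agent.Lib.ClassK.M22Nse.Sylow3
import Cfsg.Agent.Lib.KnownA.MathieuOut2

/-!
Facts on `M22` and its automorphism group used for the Janko-four type.
-/

set_option autoImplicit false

namespace CfsgLib.J4Type.CoreP

open Cfsg CfsgLib.Golay CfsgLib.ClassK
open Subgroup

/-- Short name for the permutation group `M22`. -/
abbrev M := ↥Spor.M22

theorem hypM22 : M22Nse.Hyp M := by
  have hn : ({c : ℕ | 0 < c ∧ ∃ n : ℕ, c = Nat.card {g : M // orderOf g = n}} : Set ℕ) =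
      ↑M22Nse.nseM22 := M22Nse.nse_M22
  refine ⟨card_sporM22, fun n h0 => ?_, fun c hc => ?_⟩
  · have : StructB.OrderCount.cnt M n ∈ (↑M22Nse.nseM22 : Set ℕ) := by
      rw [← hn]
      exact ⟨Nat.pos_of_ne_zero h0, n, rfl⟩
    exact this
  · obtain ⟨-, n, rfl⟩ : c ∈ ({c : ℕ | 0 < c ∧ ∃ n : ℕ, c = Nat.card {g : M // orderOf g = n}}) := by
      rw [hn]; exact hc
    exact ⟨n, rfl⟩

theorem not_comm_M22 : ∃ a b : M, a * b ≠ b * a := by
  by_contra h
  push Not at h
  have : Fact (Nat.Prime 11) := ⟨by norm_num⟩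
  obtain ⟨x, hx⟩ := exists_prime_orderOf_dvd_card' (G := M) 11 (by rw [card_sporM22]; norm_num)
  have h1 := M22Nse.cent_eleven hypM22 hx
  rw [show centralizer ({x} : Set M) = ⊤ from eq_top_iff.2 fun y _ =>
    mem_centralizer_singleton_iff.2 (h y x), card_top, card_sporM22] at h1
  norm_num at h1

theorem center_M22 : Subgroup.center M = ⊥ := by
  have := isSimple_sporM22
  refine (Subgroup.Normal.eq_bot_or_eq_top inferInstance).resolve_right fun h => ?_
  obtain ⟨a, b, hab⟩ := not_comm_M22
  exact hab (Subgroup.mem_center_iff.1 (h ▸ Subgroup.mem_top b) a)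

theorem conj_injective : Function.Injective (MulAut.conj : M →* MulAut M) := by
  rw [injective_iff_map_eq_one]
  intro a ha
  have : a ∈ Subgroup.center M := Subgroup.mem_center_iff.2 fun b => by
    have hb : a * b * a⁻¹ = b := DFunLike.congr_fun ha b
    calc b * a = a * b * a⁻¹ * a := by rw [hb]
      _ = a * b := inv_mul_cancel_right _ _
  rwa [center_M22, mem_bot] at this

/-- The inner automorphisms. -/
abbrev InnM : Subgroup (MulAut M) := Inn M

theorem index_inn : (InnM).index = 2 := CfsgLib.KnownA.Mathieu.out_M22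

theorem card_inn : Nat.card InnM = 443520 := by
  rw [← Nat.card_congr (MonoidHom.ofInjective conj_injective).toEquiv, card_sporM22]

theorem card_aut : Nat.card (MulAut M) = 887040 := by
  rw [← Subgroup.card_mul_index InnM, card_inn, index_inn]

instance : Finite (MulAut M) := Nat.finite_of_card_ne_zero (by rw [card_aut]; norm_num)

theorem isSimple_inn : IsSimpleGroup InnM := by
  have := isSimple_sporM22
  exact (MonoidHom.ofInjective conj_injective).symm.isSimpleGroup

theorem inn_commutator : ⁅InnM, InnM⁆ = InnM := by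
  have := isSimple_sporM22
  have ht : commutator M = ⊤ := by
    refine (Subgroup.Normal.eq_bot_or_eq_top inferInstance).resolve_left fun h => ?_
    obtain ⟨a, b, hab⟩ := not_comm_M22
    refine hab (commutatorElement_eq_one_iff_mul_comm.1 ((Subgroup.mem_bot).1 (h ▸ ?_)))
    rw [commutator_def]; exact commutator_mem_commutator (mem_top a) (mem_top b)
  show ⁅(MulAut.conj : M →* MulAut M).range, (MulAut.conj : M →* MulAut M).range⁆ = _
  rw [MonoidHom.range_eq_map, ← map_commutator, ← commutator_def, ht]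
  exact (MonoidHom.range_eq_map _).symm

/-- A subgroup of index at most two in the automorphism group contains the inner automorphisms. -/
theorem inn_le_of_index {X : Subgroup (MulAut M)} (h : X.index ≤ 2) : InnM ≤ X := by
  have hX0 : X.index ≠ 0 := Subgroup.index_ne_zero_of_finite
  rcases Nat.lt_or_ge X.index 2 with h1 | h1
  · rw [Subgroup.index_eq_one.1 (by omega : X.index = 1)]; exact le_top
  · have h2 : X.index = 2 := le_antisymm h h1
    have := Subgroup.normal_of_index_eq_two h2
    have := isSimple_inn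
    rcases (inferInstance : (X.subgroupOf InnM).Normal).eq_bot_or_eq_top with hb | hb
    · exfalso
      have h3 : X.relIndex InnM ∣ X.index := Subgroup.relIndex_dvd_index_of_normal X InnM
      rw [relIndex, hb, index_bot, card_inn, h2] at h3
      exact absurd (Nat.le_of_dvd (by norm_num) h3) (by norm_num)
    · exact subgroupOf_eq_top.1 hb

theorem eq_inn_of_index {X : Subgroup (MulAut M)} (h : X.index = 2) : X = InnM := by
  refine (Subgroup.eq_of_le_of_card_ge (inn_le_of_index h.le) ?_).symm
  have h1 := Subgroup.card_mul_index X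
  rw [h, card_aut] at h1
  rw [card_inn]; omega

/-- An element of odd order is inner. -/
theorem mem_inn_of_odd {φ : MulAut M} (h : Odd (orderOf φ)) : φ ∈ InnM := by
  obtain ⟨k, hk⟩ := h
  have h2 : φ ^ 2 ∈ InnM := Subgroup.sq_mem_of_index_two index_inn φ
  have : φ = (φ ^ 2) ^ (k + 1) := by
    rw [← pow_mul, show 2 * (k + 1) = orderOf φ + 1 by omega, pow_add, pow_orderOf_eq_one, one_mul,
      pow_one]
  rw [this]; exact Subgroup.pow_mem _ h2 _

theorem inn_conj_two {φ χ : MulAut M} (hφ : φ ∈ InnM) (hχ : χ ∈ InnM) (h1 : orderOf φ = 2)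
    (h2 : orderOf χ = 2) : ∃ c ∈ InnM, c * φ * c⁻¹ = χ := by
  obtain ⟨a, rfl⟩ := hφ
  obtain ⟨b, rfl⟩ := hχ
  rw [orderOf_injective _ conj_injective] at h1 h2
  obtain ⟨c, hc⟩ := isConj_iff.1 (M22Nse.isConj_two hypM22 h1 h2)
  exact ⟨_, ⟨c, rfl⟩, by rw [← map_inv, ← map_mul, ← map_mul, hc]⟩

theorem inn_conj_three {φ χ : MulAut M} (h1 : orderOf φ = 3)
    (h2 : orderOf χ = 3) : ∃ c ∈ InnM, c * φ * c⁻¹ = χ := by
  obtain ⟨a, rfl⟩ := mem_inn_of_odd (φ := φ) (by rw [h1]; decide)
  obtain ⟨b, rfl⟩ := mem_inn_of_odd (φ := χ) (by rw [h2]; decide)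
  rw [orderOf_injective _ conj_injective] at h1 h2
  obtain ⟨c, hc⟩ := isConj_iff.1 (M22Nse.isConj_three hypM22 h1 h2)
  exact ⟨_, ⟨c, rfl⟩, by rw [← map_inv, ← map_mul, ← map_mul, hc]⟩

/-- An odd-order subgroup centralising an element of order three has order dividing nine. -/
theorem card_odd_cent_three {φ : MulAut M} (h : orderOf φ = 3) {X : Subgroup (MulAut M)}
    (hX : Odd (Nat.card X)) (hc : X ≤ centralizer ({φ} : Set (MulAut M))) : Nat.card X ∣ 9 := by
  obtain ⟨a, rfl⟩ := mem_inn_of_odd (φ := φ) (by rw [h]; decide)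
  rw [orderOf_injective _ conj_injective] at h
  have hle : X ≤ InnM := fun x hx => mem_inn_of_odd
    (hX.of_dvd_nat (Subgroup.orderOf_dvd_natCard _ hx))
  set Y := X.comap (MulAut.conj : M →* MulAut M) with hY
  have hmap : Y.map (MulAut.conj : M →* MulAut M) = X := Subgroup.map_comap_eq_self hle
  have hcard : Nat.card Y = Nat.card X := by
    rw [← hmap]
    exact Nat.card_congr (Y.equivMapOfInjective _ conj_injective).toEquiv
  have hYc : Y ≤ centralizer ({a} : Set M) := fun y hy => by
    refine mem_centralizer_singleton_iff.2 (conj_injective ?_)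
    rw [map_mul, map_mul]
    exact mem_centralizer_singleton_iff.1 (hc hy)
  have hd := Subgroup.card_dvd_of_le hYc
  rw [M22Nse.cent_three hypM22 h, hcard] at hd
  have : ∀ m ∈ Nat.divisors 36, Odd m → m ∣ 9 := by decide +kernel
  exact this _ (Nat.mem_divisors.2 ⟨hd, by norm_num⟩) hX

theorem card_normalizer_three (S : Sylow 3 (MulAut M)) :
    Nat.card (normalizer ((S : Subgroup (MulAut M)) : Set (MulAut M))) = 144 := by
  have : Fact (Nat.Prime 3) := ⟨Nat.prime_three⟩
  have hS : (S : Subgroup (MulAut M)) ≤ InnM := fun x hx => mem_inn_of_odd (by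
    obtain ⟨k, hk⟩ := IsPGroup.iff_orderOf.1 S.2 ⟨x, hx⟩
    rw [Subgroup.orderOf_mk] at hk
    rw [hk]; exact Odd.pow (by decide))
  set N := normalizer ((S : Subgroup (MulAut M)) : Set (MulAut M)) with hN
  set T := (S : Subgroup (MulAut M)).comap (MulAut.conj : M →* MulAut M) with hT
  have hmap : T.map (MulAut.conj : M →* MulAut M) = S := Subgroup.map_comap_eq_self hS
  have hTc : Nat.card T = 3 ^ 2 := by
    rw [Nat.card_congr (T.equivMapOfInjective _ conj_injective).toEquiv, hmap,
      S.card_eq_multiplicity, card_aut]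
    rw [show 887040 = 3 ^ 2 * 98560 by norm_num, Nat.factorization_mul (by norm_num) (by norm_num),
      Nat.Prime.factorization_pow Nat.prime_three, Finsupp.add_apply, Finsupp.single_eq_same,
      Nat.factorization_eq_zero_of_not_dvd (by norm_num)]
  have hfac : Nat.card T = 3 ^ (Nat.card M).factorization 3 := by
    rw [hTc, card_sporM22]
    rw [show 443520 = 3 ^ 2 * 49280 by norm_num, Nat.factorization_mul (by norm_num) (by norm_num),
      Nat.Prime.factorization_pow Nat.prime_three, Finsupp.add_apply, Finsupp.single_eq_same,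
      Nat.factorization_eq_zero_of_not_dvd (by norm_num)]
  have h72 : Nat.card (normalizer (T : Set M)) = 72 := by
    simpa using M22Nse.card_normalizer_sylow hypM22 (Sylow.ofCard T hfac)
  have hmapN : (normalizer (T : Set M)).map (MulAut.conj : M →* MulAut M) = N ⊓ InnM := by
    ext x
    constructor
    · rintro ⟨m, hm, rfl⟩
      refine ⟨?_, m, rfl⟩
      show _ ∈ normalizer _
      rw [← hmap]
      exact (Subgroup.le_normalizer_map (H := T) _) ⟨m, hm, rfl⟩
    · rintro ⟨hx, m, rfl⟩
      refine ⟨m, mem_normalizer_iff.2 fun t => ?_, rfl⟩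
      simp only [hT, mem_comap, map_mul, map_inv]
      exact mem_normalizer_iff.1 hx _
  have hcardI : Nat.card ↥(N ⊓ InnM : Subgroup (MulAut M)) = 72 := by
    rw [← hmapN, ← Nat.card_congr ((normalizer (T : Set M)).equivMapOfInjective _
      conj_injective).toEquiv, h72]
  have hsup : N ⊔ InnM = ⊤ := Sylow.normalizer_sup_eq_top' S hS
  have hrel : InnM.relIndex N = 2 := by
    rw [← Subgroup.relIndex_sup_right (H := N) (K := InnM), hsup, relIndex_top_right, index_inn]
  have h2 := Subgroup.card_mul_index (InnM.subgroupOf N)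
  have he : InnM.subgroupOf N = (InnM ⊓ N).subgroupOf N := (Subgroup.inf_subgroupOf_right _ _).symm
  rw [← relIndex, hrel, he, Nat.card_congr (Subgroup.subgroupOfEquivOfLe inf_le_right).toEquiv,
    inf_comm, hcardI] at h2
  rw [← h2]

end CfsgLib.J4Type.CoreP
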