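import Cfsg.Agent.Lib.J4Type.Interface
import Cfsg.Agent.Lib.J4Type.CoreP.M22Facts
import Cfsg.Agent.Lib.Solvable.PCore

/-!
The centraliser of the involution over the automorphism group of `M22`, and the centraliser of `P`
in it.
-/

set_option autoImplicit false
set_option linter.unusedSectionVars false

namespace CfsgLib.J4Type.CoreP

open Cfsg Subgroup

variable {G : Type*} [Group G] [Finite G] {z : G} {P : Subgroup G}

/-- The basic consequences of the hypothesis. -/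
structure Base (z : G) (P : Subgroup G) where
  /-- The projection onto the automorphism group. -/
  proj : ↥(Cen z) →* MulAut M
  surj : Function.Surjective proj
  ker : ∀ h : ↥(Cen z), proj h = 1 ↔ ∃ e ∈ Rad z, ∃ p ∈ P, (h : G) = e * p
  z_ord : orderOf z = 2
  z_rad : z ∈ Rad z
  p_le : P ≤ Cen z
  card_p : Nat.card P = 3
  rad_le : Rad z ≤ Cen z
  rad_conj : ∀ h ∈ Cen z, ∀ x ∈ Rad z, h * x * h⁻¹ ∈ Rad z
  card_rad : Nat.card (Rad z) = 2 ^ 13
  rad_cent : Rad z ⊓ centralizer (P : Set G) = zpowers z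
  rad_inf_p : ∀ x ∈ Rad z, x ∈ P → x = 1
  moving : ∃ a ∈ Cen z ⊓ normalizer (P : Set G), a ∉ CP z P
  p_derived : P ≤ ⁅CP z P, CP z P⁆
  card_cen : Nat.card (Cen z) = 887040 * (3 * 2 ^ 13)

theorem exists_base (F : Frame z P) : Nonempty (Base z P) := by
  obtain ⟨hz, -, hcard, -, ⟨N, hEN, hNH, -, hN3, ⟨hnorm, ⟨e⟩⟩, hPN⟩, hP, hfix, hne, hder⟩ := F.type
  have hzE : z ∈ Rad z := (hfix.ge (mem_zpowers z)).1
  have hEle : Rad z ≤ Cen z := map_subtype_le _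
  have hconj : ∀ h ∈ Cen z, ∀ x ∈ Rad z, h * x * h⁻¹ ∈ Rad z := by
    rintro h hh _ ⟨y, hy, rfl⟩
    exact ⟨⟨h, hh⟩ * y * ⟨h, hh⟩⁻¹, (CfsgLib.Solvable.pCore_normal 2 ↥(Cen z)).conj_mem _ hy _, rfl⟩
  have hcop : ∀ x ∈ Rad z, x ∈ P → x = 1 := fun x hx hxP => by
    have h1 := Subgroup.orderOf_dvd_natCard _ hx
    have h2 := Subgroup.orderOf_dvd_natCard _ hxP
    rw [hcard] at h1; rw [hP] at h2
    exact orderOf_eq_one_iff.1 (Nat.eq_one_of_dvd_coprimes (by norm_num) h1 h2)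
  have hsplit : ∀ x ∈ N, ∃ a ∈ Rad z, ∃ p ∈ P, x = a * p := by
    let f : ↥(Rad z) × ↥P → ↥N := fun q => ⟨q.1 * q.2, mul_mem (hEN q.1.2) (hPN q.2.2)⟩
    have hf : Function.Injective f := by
      rintro ⟨a, p⟩ ⟨b, q⟩ h
      have h' : (a : G) * p = b * q := congrArg Subtype.val h
      have h1 : (b : G)⁻¹ * a = q * (p : G)⁻¹ := by
        rw [eq_mul_inv_iff_mul_eq, mul_assoc, h', inv_mul_cancel_left]
      have h2 := hcop _ (mul_mem (inv_mem b.2) a.2) (h1 ▸ mul_mem q.2 (inv_mem p.2))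
      have ha : a = b := Subtype.ext (inv_mul_eq_one.1 h2).symm
      subst ha
      exact Prod.ext rfl (Subtype.ext (mul_left_cancel h'))
    have hb := (Nat.bijective_iff_injective_and_card f).2
      ⟨hf, by rw [Nat.card_prod, hN3, hP, Nat.mul_comm]⟩
    intro x hx
    obtain ⟨⟨a, p⟩, hq⟩ := hb.2 ⟨x, hx⟩
    exact ⟨a, a.2, p, p.2, (congrArg Subtype.val hq).symm⟩
  let φ : ↥(Cen z) →* MulAut M := e.toMonoidHom.comp (QuotientGroup.mk' _)
  refine ⟨⟨φ, e.surjective.comp (QuotientGroup.mk'_surjective _), fun h => ?_, hz, hzE,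
    hPN.trans hNH, hP, hEle, hconj, hcard, hfix, hcop, ?_, hder, ?_⟩⟩
  · rw [show φ h = e (QuotientGroup.mk h) from rfl, map_eq_one_iff _ e.injective,
      QuotientGroup.eq_one_iff, mem_subgroupOf]
    refine ⟨hsplit _, ?_⟩
    rintro ⟨a, ha, p, hp, heq⟩
    rw [heq]; exact mul_mem (hEN ha) (hPN hp)
  · by_contra hcon
    push Not at hcon
    exact hne (le_antisymm hcon (inf_le_inf_left _ (Subgroup.centralizer_le_normalizer _)))
  · have h1 := Subgroup.card_eq_card_quotient_mul_card_subgroup (N.subgroupOf (Cen z))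
    rw [h1, Nat.card_congr e.toEquiv, card_aut,
      Nat.card_congr (Subgroup.subgroupOfEquivOfLe hNH).toEquiv, hN3, hcard]

namespace Base

variable (B : Base z P)
include B

theorem z_ne_one : z ≠ 1 := fun h => by have := B.z_ord; rw [h, orderOf_one] at this; omega

theorem zz : z * z = 1 := by
  have := pow_orderOf_eq_one z
  rwa [B.z_ord, pow_two] at this

theorem z_inv : z⁻¹ = z := inv_eq_of_mul_eq_one_right B.zz

omit [Finite G] in
theorem mem_cen {x : G} : x ∈ Cen z ↔ x * z = z * x := mem_centralizer_singleton_iff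

theorem z_mem_cen : z ∈ Cen z := B.rad_le B.z_rad

theorem mem_zpowers_z {x : G} (h : x ∈ zpowers z) : x = 1 ∨ x = z := by
  obtain ⟨k, rfl⟩ := h
  rcases Int.even_or_odd' k with ⟨m, rfl | rfl⟩ <;>
    simp [zpow_add, zpow_mul, zpow_ofNat, pow_two, B.zz]

theorem z_comm_p : z ∈ centralizer (P : Set G) := (B.rad_cent.ge (mem_zpowers z)).2

theorem z_mem_C : z ∈ CP z P := ⟨B.z_mem_cen, B.z_comm_p⟩

theorem exists_gen : ∃ p, orderOf p = 3 ∧ P = zpowers p := by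
  have : Fact (Nat.Prime 3) := ⟨Nat.prime_three⟩
  obtain ⟨⟨p, hp⟩, hpo⟩ := exists_prime_orderOf_dvd_card' (G := P) 3 (by rw [B.card_p])
  rw [Subgroup.orderOf_mk] at hpo
  refine ⟨p, hpo, (Subgroup.eq_of_le_of_card_ge (zpowers_le.2 hp) ?_).symm⟩
  rw [Nat.card_zpowers, hpo, B.card_p]

theorem p_comm {a b : G} (ha : a ∈ P) (hb : b ∈ P) : a * b = b * a := by
  obtain ⟨p, -, rfl⟩ := B.exists_gen
  obtain ⟨i, rfl⟩ := ha
  obtain ⟨j, rfl⟩ := hb
  exact ((Commute.refl p).zpow_zpow i j).eq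

theorem p_le_C : P ≤ CP z P :=
  fun x hx => ⟨B.p_le hx, mem_centralizer_iff.2 fun _ hy => B.p_comm hy hx⟩

theorem C_le_cen : CP z P ≤ Cen z := inf_le_left

theorem comm_p {c x : G} (hc : c ∈ CP z P) (hx : x ∈ P) : c * x = x * c :=
  (mem_centralizer_iff.1 hc.2 x hx).symm

theorem comm_z {c : G} (hc : c ∈ Cen z) : c * z = z * c := mem_centralizer_singleton_iff.1 hc

/-- The radical meets the normaliser of `P` in the centre of the radical. -/
theorem rad_norm {e : G} (he : e ∈ Rad z) (hn : e ∈ normalizer (P : Set G)) : e = 1 ∨ e = z := by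
  refine B.mem_zpowers_z (B.rad_cent.le ⟨he, mem_centralizer_iff.2 fun p hp => ?_⟩)
  have h1 : e * p * e⁻¹ * p⁻¹ ∈ P := mul_mem ((mem_normalizer_iff.1 hn p).1 hp) (inv_mem hp)
  have h2 : e * (p * e⁻¹ * p⁻¹) ∈ Rad z := mul_mem he (B.rad_conj p (B.p_le hp) _ (inv_mem he))
  have h3 := B.rad_inf_p _ (by simpa only [mul_assoc] using h2) h1
  rw [mul_inv_eq_one, mul_inv_eq_iff_eq_mul] at h3
  exact h3.symm

theorem proj_rad {e : G} (he : e ∈ Rad z) : B.proj ⟨e, B.rad_le he⟩ = 1 :=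
  (B.ker _).2 ⟨e, he, 1, one_mem _, (mul_one e).symm⟩

theorem proj_p {p : G} (hp : p ∈ P) : B.proj ⟨p, B.p_le hp⟩ = 1 :=
  (B.ker _).2 ⟨1, one_mem _, p, hp, (one_mul p).symm⟩

/-- The part of the kernel normalising `P`. -/
theorem ker_norm {h : G} (hh : h ∈ Cen z) (hn : h ∈ normalizer (P : Set G))
    (hk : B.proj ⟨h, hh⟩ = 1) : ∃ p ∈ P, h = p ∨ h = z * p := by
  obtain ⟨e, he, p, hp, heq⟩ := (B.ker _).1 hk
  have : e ∈ normalizer (P : Set G) := by
    rw [show e = h * p⁻¹ by rw [show h = e * p from heq, mul_inv_cancel_right]]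
    exact mul_mem hn (inv_mem (Subgroup.le_normalizer hp))
  rcases B.rad_norm he this with rfl | rfl
  · exact ⟨p, hp, Or.inl (heq.trans (one_mul p))⟩
  · exact ⟨p, hp, Or.inr heq⟩

theorem mem_C_of_ker {h : G} (hh : h ∈ Cen z) (hn : h ∈ normalizer (P : Set G))
    (hk : B.proj ⟨h, hh⟩ = 1) : h ∈ CP z P := by
  obtain ⟨p, hp, rfl | rfl⟩ := B.ker_norm hh hn hk
  · exact B.p_le_C hp
  · exact mul_mem B.z_mem_C (B.p_le_C hp)

theorem C_le_norm : CP z P ≤ normalizer (P : Set G) :=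
  inf_le_right.trans (Subgroup.centralizer_le_normalizer _)

/-- The centraliser of `P` as a subgroup of the centraliser of `z`. -/
abbrev CC : Subgroup ↥(Cen z) := (CP z P).subgroupOf (Cen z)

omit B in
/-- Two elements moving a subgroup of order three differ by a centralising one. -/
theorem moved_quot {p a b : G} (hp : orderOf p = 3) (ha : a * p * a⁻¹ ∈ zpowers p)
    (hb : b * p * b⁻¹ ∈ zpowers p) (ha' : a * p * a⁻¹ ≠ p) (hb' : b * p * b⁻¹ ≠ p) :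
    a⁻¹ * b * p = p * (a⁻¹ * b) := by
  have key : ∀ c : G, c * p * c⁻¹ ∈ zpowers p → c * p * c⁻¹ ≠ p → c * p * c⁻¹ = p ^ 2 := by
    intro c hc hc'
    obtain ⟨k, hk⟩ := (IsOfFinOrder.mem_powers_iff_mem_zpowers (isOfFinOrder_of_finite p)).2 hc
    simp only at hk
    rw [← pow_mod_orderOf, hp] at hk
    have : k % 3 < 3 := Nat.mod_lt _ (by norm_num)
    interval_cases k % 3
    · rw [pow_zero] at hk
      have h2 : p = 1 := conj_eq_one_iff.1 hk.symm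
      rw [h2, orderOf_one] at hp; omega
    · exact absurd (hk.symm.trans (pow_one p)) hc'
    · exact hk.symm
  have h1 := (key a ha ha').trans (key b hb hb').symm
  calc a⁻¹ * b * p = a⁻¹ * (b * p * b⁻¹) * b := by group
    _ = a⁻¹ * (a * p * a⁻¹) * b := by rw [h1]
    _ = p * (a⁻¹ * b) := by group

theorem map_C (F : Frame z P) : (CC (z := z) (P := P)).map B.proj = InnM := by
  refine eq_inn_of_index ?_
  obtain ⟨a, ⟨haH, haN⟩, haC⟩ := B.moving
  obtain ⟨p, hpo, hPp⟩ := B.exists_gen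
  have hmv : ∀ b ∈ Cen z, b ∈ normalizer (P : Set G) →
      (b * p * b⁻¹ ∈ zpowers p ∧ (b * p * b⁻¹ = p → b ∈ CP z P)) := by
    intro b hb hbn
    refine ⟨hPp ▸ (mem_normalizer_iff.1 hbn p).1 (hPp ▸ mem_zpowers p), fun h => ⟨hb, ?_⟩⟩
    show b ∈ centralizer (P : Set G)
    rw [mem_centralizer_iff]
    intro x hx
    rw [hPp] at hx
    obtain ⟨k, rfl⟩ := hx
    exact ((show Commute b p from mul_inv_eq_iff_eq_mul.1 h).zpow_right k).eq.symm
  have hsurj : ∀ φ : MulAut M, ∃ b : G, ∃ hb : b ∈ Cen z, b ∈ normalizer (P : Set G) ∧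
      B.proj ⟨b, hb⟩ = φ := by
    intro φ
    obtain ⟨⟨h, hh⟩, rfl⟩ := B.surj φ
    obtain ⟨b, ⟨hb, hbn⟩, hm⟩ := F.mat_surj _ (F.mat_inL h hh)
    refine ⟨b, hb, hbn, ?_⟩
    have h1 : F.mat (b⁻¹ * h) = idM := by
      rw [F.mat_mul _ (inv_mem hb) _ hh, ← hm, ← F.mat_mul _ (inv_mem hb) _ hb, inv_mul_cancel,
        (F.mat_eq_id 1 (one_mem _)).2 (one_mem _)]
    have h2 := B.proj_rad ((F.mat_eq_id _ (mul_mem (inv_mem hb) hh)).1 h1)
    rw [show (⟨b⁻¹ * h, _⟩ : ↥(Cen z)) = (⟨b, hb⟩ : ↥(Cen z))⁻¹ * ⟨h, hh⟩ from rfl, map_mul,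
      map_inv, inv_mul_eq_one] at h2
    exact h2
  have hA : B.proj ⟨a, haH⟩ ∉ (CC (z := z) (P := P)).map B.proj := by
    rintro ⟨⟨c, hc⟩, hcC, heq⟩
    replace hcC : c ∈ CP z P := hcC
    have hk : B.proj ⟨c⁻¹ * a, mul_mem (inv_mem hc) haH⟩ = 1 := by
      rw [show (⟨c⁻¹ * a, _⟩ : ↥(Cen z)) = (⟨c, hc⟩ : ↥(Cen z))⁻¹ * ⟨a, haH⟩ from rfl, map_mul,
        map_inv, heq, inv_mul_cancel]
    have := B.mem_C_of_ker _ (mul_mem (inv_mem (B.C_le_norm hcC)) haN) hk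
    exact haC (by simpa using mul_mem hcC this)
  rw [index_eq_two_iff]
  refine ⟨B.proj ⟨a, haH⟩, fun φ => ?_⟩
  by_cases hφ : φ ∈ (CC (z := z) (P := P)).map B.proj
  · exact Or.inr ⟨hφ, fun h => hA ((Subgroup.mul_mem_cancel_left _ hφ).1 h)⟩
  · refine Or.inl ⟨?_, hφ⟩
    obtain ⟨b, hb, hbn, rfl⟩ := hsurj φ
    have hbC : b ∉ CP z P := fun h => hφ ⟨⟨b, hb⟩, h, rfl⟩
    have hbi : b⁻¹ ∈ Cen z := inv_mem hb
    have hbiC : b⁻¹ ∉ CP z P := fun h => hbC (inv_mem_iff.1 h)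
    have h1 := hmv _ hbi (inv_mem hbn)
    have h2 := hmv a haH haN
    have h3 := moved_quot hpo h1.1 h2.1 (fun e => hbiC (h1.2 e)) (fun e => haC (h2.2 e))
    rw [inv_inv] at h3
    refine ⟨⟨b * a, mul_mem hb haH⟩, ⟨mul_mem hb haH, ?_⟩, by rw [← map_mul]; rfl⟩
    show b * a ∈ centralizer (P : Set G)
    rw [mem_centralizer_iff]
    intro x hx
    rw [hPp] at hx
    obtain ⟨k, rfl⟩ := hx
    exact ((show Commute (b * a) p from h3).zpow_right k).eq.symm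

theorem inn_of_mem_C (F : Frame z P) {c : G} (hc : c ∈ CP z P) :
    B.proj ⟨c, hc.1⟩ ∈ InnM := by
  rw [← B.map_C F]; exact ⟨⟨c, hc.1⟩, hc, rfl⟩

theorem exists_C (F : Frame z P) {φ : MulAut M} (h : φ ∈ InnM) :
    ∃ c : G, ∃ hc : c ∈ CP z P, B.proj ⟨c, hc.1⟩ = φ := by
  rw [← B.map_C F] at h
  obtain ⟨⟨c, hc⟩, hcC, rfl⟩ := h
  exact ⟨c, hcC, rfl⟩

theorem ker_C {c : G} (hc : c ∈ CP z P) (h : B.proj ⟨c, hc.1⟩ = 1) :
    ∃ p ∈ P, c = p ∨ c = z * p := B.ker_norm hc.1 (B.C_le_norm hc) h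

end Base

end CfsgLib.J4Type.CoreP
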