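import Cfsg.Agent.Lib.J4Type.CoreP.Move
import Cfsg.Agent.Lib.J4Type.Three.Sylow
import Cfsg.Agent.Lib.Invol.BrauerSuzuki
import Cfsg.Agent.Lib.Coprime.Generation

/-!
The normaliser of `P` lies in the centraliser of the involution.
-/

set_option autoImplicit false
set_option linter.unusedSectionVars false

namespace CfsgLib.J4Type.CoreP

open Cfsg Subgroup

variable {G : Type*} [Group G] [Finite G] {z : G} {P : Subgroup G}

theorem card_sup_inf {K A : Subgroup G} (h : A ≤ normalizer (K : Set G)) :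
    Nat.card (K ⊔ A : Subgroup G) * Nat.card (K ⊓ A : Subgroup G) = Nat.card A * Nat.card K := by
  have h1 : K.relIndex (K ⊔ A) = K.relIndex A := by
    have : (K.subgroupOf (normalizer (K : Set G))).Normal := normal_in_normalizer
    rw [← relIndex_subgroupOf (sup_le le_normalizer h), ← relIndex_subgroupOf h,
      subgroupOf_sup le_normalizer h, relIndex_sup_left]
  have h2 : Nat.card (K ⊔ A : Subgroup G) = Nat.card K * K.relIndex A := by
    rw [← h1, ← relIndex_bot_left, ← relIndex_bot_left,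
      relIndex_mul_relIndex ⊥ K _ bot_le le_sup_left]
  have h3 : Nat.card A = Nat.card (K ⊓ A : Subgroup G) * K.relIndex A := by
    rw [← inf_relIndex_right K A, ← relIndex_bot_left, ← relIndex_bot_left,
      relIndex_mul_relIndex ⊥ (K ⊓ A) _ bot_le inf_le_right]
  rw [h2, h3]; ring

/-- Three subgroups of order dividing nine around one of order three. -/
theorem card_join_three {O P X Y W : Subgroup G} (hP : Nat.card P = 3) (hX : P ≤ X) (hY : P ≤ Y)
    (hW : P ≤ W) (hXc : Nat.card X ∣ 9) (hYc : Nat.card Y ∣ 9) (hWc : Nat.card W ∣ 9)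
    (hXO : X ≤ O) (hYO : Y ≤ O) (hWO : W ≤ O)
    (hn : ∀ A : Subgroup G, P ≤ A → A ≤ O → O ≤ normalizer (A : Set G)) :
    Nat.card (X ⊔ Y ⊔ W : Subgroup G) ∣ 81 := by
  have step : ∀ A B : Subgroup G, P ≤ A → P ≤ B → A ≤ O → B ≤ O →
      Nat.card (A ⊔ B : Subgroup G) * 3 ∣ Nat.card A * Nat.card B := by
    intro A B hA hB hAO hBO
    rw [mul_comm (Nat.card A), ← card_sup_inf (hBO.trans (hn A hA hAO))]
    exact Nat.mul_dvd_mul_left _ (hP ▸ Subgroup.card_dvd_of_le (le_inf hA hB))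
  have h1 : Nat.card (X ⊔ Y : Subgroup G) ∣ 27 :=
    Nat.dvd_of_mul_dvd_mul_right (by norm_num : 0 < 3)
      ((step X Y hX hY hXO hYO).trans (by simpa using mul_dvd_mul hXc hYc))
  exact Nat.dvd_of_mul_dvd_mul_right (by norm_num : 0 < 3)
    ((step _ W (hX.trans le_sup_left) hW (sup_le hXO hYO) hWO).trans
      (by simpa using mul_dvd_mul h1 hWc))

/-- An element of order eleven centralises a normalised subgroup of order dividing eighty-one. -/
theorem eleven_centralises {c : G} (hc : orderOf c = 11) {O : Subgroup G} (hcard : Nat.card O ∣ 81)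
    (hn : c ∈ normalizer (O : Set G)) : ∀ x ∈ O, c * x = x * c := by
  have : Fact (Nat.Prime 11) := ⟨by norm_num⟩
  set A := zpowers c with hA
  have hAn : A ≤ normalizer (O : Set G) := zpowers_le.2 hn
  let : MulAction A O :=
    { smul := fun a x => ⟨a * x * (a : G)⁻¹, (mem_normalizer_iff.1 (hAn a.2) _).1 x.2⟩
      one_smul := fun x => Subtype.ext (show (1 : G) * x * (1 : G)⁻¹ = x by simp)
      mul_smul := fun a b x => Subtype.ext
        (show (a : G) * b * x * ((a : G) * b)⁻¹ = a * (b * x * (b : G)⁻¹) * (a : G)⁻¹ by group) }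
  have hpA : IsPGroup 11 A := IsPGroup.of_card (n := 1) (by rw [hA, Nat.card_zpowers, hc, pow_one])
  have hmod := hpA.card_modEq_card_fixedPoints (α := O)
  set S := O ⊓ centralizer ({c} : Set G) with hS
  have hfix : Nat.card (MulAction.fixedPoints A O) = Nat.card S := by
    refine Nat.card_congr
      { toFun := fun x => ⟨(x : O), (x : O).2, mem_centralizer_singleton_iff.2 ?_⟩
        invFun := fun x => ⟨⟨(x : G), x.2.1⟩, fun a => Subtype.ext ?_⟩
        left_inv := fun _ => rfl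
        right_inv := fun _ => rfl }
    · have := congrArg Subtype.val (x.2 ⟨c, mem_zpowers c⟩)
      exact (mul_inv_eq_iff_eq_mul.1 (show c * ((x : O) : G) * c⁻¹ = (x : O) from this)).symm
    · obtain ⟨k, hk⟩ := a.2
      show (a : G) * (x : G) * (a : G)⁻¹ = x
      rw [← hk]
      have hcx : Commute c (x : G) := (mem_centralizer_singleton_iff.1 x.2.2).symm
      exact mul_inv_eq_iff_eq_mul.2 (hcx.zpow_left k).eq
  rw [hfix] at hmod
  have hSd : Nat.card S ∣ Nat.card O := Subgroup.card_dvd_of_le inf_le_left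
  have hdec : ∀ m ∈ Nat.divisors 81, ∀ n ∈ Nat.divisors 81, m % 11 = n % 11 → m = n := by
    decide +kernel
  have he := hdec _ (Nat.mem_divisors.2 ⟨hcard, by norm_num⟩) _
    (Nat.mem_divisors.2 ⟨hSd.trans hcard, by norm_num⟩) hmod
  intro x hx
  have : x ∈ S := (Subgroup.eq_of_le_of_card_ge inf_le_left he.le).ge hx
  exact (mem_centralizer_singleton_iff.1 this.2).symm

namespace Base

variable (B : Base z P) (F : Frame z P)
include B F

theorem isolated (D : VData F) {k : G} (hk : k ∈ centralizer (P : Set G))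
    (hc : k * z * k⁻¹ * z = z * (k * z * k⁻¹)) : k * z * k⁻¹ = z := by
  by_contra hne
  set j := k * z * k⁻¹ with hj
  have hjC : j ∈ CP z P :=
    ⟨B.mem_cen.2 hc, Subgroup.mul_mem _ (Subgroup.mul_mem _ hk B.z_comm_p) (Subgroup.inv_mem _ hk)⟩
  obtain ⟨c, hcC, hcV⟩ := D.inner_invol j hjC (by
    rw [hj, show k * z * k⁻¹ * (k * z * k⁻¹) = k * (z * z) * k⁻¹ by group, B.zz, mul_one,
      mul_inv_cancel])
  have e : c * k * z * (c * k)⁻¹ = c * j * c⁻¹ := by rw [hj]; group
  have hck : c * k ∈ centralizer (P : Set G) := mul_mem hcC.2 hk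
  obtain ⟨x, hx, hx1, hxz, hxc⟩ := B.moves F D (g := c * k) (by rw [e]; exact hcV)
    (by rw [e]; exact mul_mem (mul_mem hcC.2 hjC.2) (inv_mem hcC.2))
    (fun h => hne (by
      rw [e] at h
      rw [show j = c⁻¹ * (c * j * c⁻¹) * c by group, h, mul_assoc, ← B.comm_z hcC.1,
        inv_mul_cancel_left]))
  have hxP : x ∈ centralizer (P : Set G) := by
    have := mul_mem (mul_mem (inv_mem hck) hxc) hck
    rwa [show (c * k)⁻¹ * (c * k * x * (c * k)⁻¹) * (c * k) = x by group] at this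
  rcases B.mem_zpowers_z (B.rad_cent.le ⟨hx, hxP⟩) with h | h
  · exact hx1 h
  · exact hxz h

theorem noncentral (D : VData F) {g : G} (hV : g * z * g⁻¹ ∈ D.V)
    (hP : g * z * g⁻¹ ∈ centralizer (P : Set G)) (hne : g * z * g⁻¹ ≠ z) {p : G} (hp : p ∈ P)
    (hp1 : p ≠ 1) (hq : g⁻¹ * p * g ∈ Cen z) : B.proj ⟨g⁻¹ * p * g, hq⟩ ≠ 1 := by
  intro hk
  set q := g⁻¹ * p * g with hqdef
  have hqo : orderOf q = 3 := by
    have h1 : q = MulAut.conj g⁻¹ p := by simp [hqdef]
    rw [h1, MulEquiv.orderOf_eq]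
    have := Subgroup.orderOf_dvd_natCard _ hp
    rw [B.card_p] at this
    rcases (Nat.dvd_prime Nat.prime_three).1 this with h | h
    · exact absurd (orderOf_eq_one_iff.1 h) hp1
    · exact h
  obtain ⟨h, hh, hW⟩ := Three.ker_conj B (zpowers_le.2 hq)
    (by rw [Nat.card_zpowers, hqo]) (fun w hw => by
      obtain ⟨i, rfl⟩ := hw
      rw [show (⟨q ^ i, _⟩ : ↥(Cen z)) = (⟨q, hq⟩ : ↥(Cen z)) ^ i from rfl, map_zpow, hk, one_zpow])
  obtain ⟨e, he, he1, hez, hec⟩ := B.moves F D hV hP hne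
  have heq : e * q = q * e := by
    have := mem_centralizer_iff.1 hec p hp
    calc e * q = g⁻¹ * (g * e * g⁻¹ * p) * g := by rw [hqdef]; group
      _ = g⁻¹ * (p * (g * e * g⁻¹)) * g := by rw [this]
      _ = q * e := by rw [hqdef]; group
  have hE : h⁻¹ * e * h ∈ Rad z := by simpa using B.rad_conj _ (inv_mem hh) e he
  have hC : h⁻¹ * e * h ∈ centralizer (P : Set G) := mem_centralizer_iff.2 fun y hy => by
    obtain ⟨i, hi⟩ : h * y * h⁻¹ ∈ zpowers q := hW ▸ ⟨y, hy, rfl⟩
    simp only at hi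
    calc y * (h⁻¹ * e * h) = h⁻¹ * ((h * y * h⁻¹) * e) * h := by group
      _ = h⁻¹ * (q ^ i * e) * h := by rw [hi]
      _ = h⁻¹ * (e * q ^ i) * h := by rw [((show Commute e q from heq).zpow_right i).eq]
      _ = h⁻¹ * (e * (h * y * h⁻¹)) * h := by rw [hi]
      _ = h⁻¹ * e * h * y := by group
  rcases B.mem_zpowers_z (B.rad_cent.le ⟨hE, hC⟩) with he' | he'
  · exact he1 (by rw [show e = h * (h⁻¹ * e * h) * h⁻¹ by group, he', mul_one, mul_inv_cancel])
  · exact hez (by
      rw [show e = h * (h⁻¹ * e * h) * h⁻¹ by group, he', B.comm_z hh, mul_inv_cancel_right])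

/-- An odd subgroup centralising `P` and a conjugate of the involution has order dividing nine. -/
theorem card_odd_cent (D : VData F) {g : G} (hV : g * z * g⁻¹ ∈ D.V)
    (hP : g * z * g⁻¹ ∈ centralizer (P : Set G)) (hne : g * z * g⁻¹ ≠ z) {X : Subgroup G}
    (hX : Odd (Nat.card X)) (hPX : P ≤ X) (hXP : X ≤ centralizer (P : Set G))
    (hXj : X ≤ centralizer ({g * z * g⁻¹} : Set G)) : Nat.card X ∣ 9 := by
  obtain ⟨p, hpo, hPp⟩ := B.exists_gen
  have hp : p ∈ P := hPp ▸ mem_zpowers p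
  have hp1 : p ≠ 1 := fun e => by rw [e, orderOf_one] at hpo; omega
  set Y := X.map (MulAut.conj g⁻¹).toMonoidHom with hY
  have hmem : ∀ y, y ∈ Y ↔ g * y * g⁻¹ ∈ X := fun y => by
    rw [hY, conj_eq_map, inv_inv]
  have hYH : Y ≤ Cen z := fun y hy => by
    have h1 := mem_centralizer_singleton_iff.1 (hXj ((hmem y).1 hy))
    refine B.mem_cen.2 ?_
    calc y * z = g⁻¹ * (g * y * g⁻¹ * (g * z * g⁻¹)) * g := by group
      _ = g⁻¹ * (g * z * g⁻¹ * (g * y * g⁻¹)) * g := by rw [h1]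
      _ = z * y := by group
  have hqY : g⁻¹ * p * g ∈ Y := (hmem _).2 (by simpa [mul_assoc] using hPX hp)
  set q := g⁻¹ * p * g with hq
  have hqc : ∀ y ∈ Y, y * q = q * y := fun y hy => by
    have h1 := mem_centralizer_iff.1 (hXP ((hmem y).1 hy)) p hp
    calc y * q = g⁻¹ * (g * y * g⁻¹ * p) * g := by rw [hq]; group
      _ = g⁻¹ * (p * (g * y * g⁻¹)) * g := by rw [h1]
      _ = q * y := by rw [hq]; group
  have hnc : B.proj ⟨q, hYH hqY⟩ ≠ 1 := B.noncentral F D hV hP hne hp hp1 (hYH hqY)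
  have hqo : orderOf (B.proj ⟨q, hYH hqY⟩) = 3 := by
    have : Fact (Nat.Prime 3) := ⟨Nat.prime_three⟩
    refine orderOf_eq_prime ?_ hnc
    rw [← map_pow, show (⟨q, hYH hqY⟩ : ↥(Cen z)) ^ 3 = 1 from Subtype.ext (by
      show q ^ 3 = 1
      rw [show q = MulAut.conj g⁻¹ p by simp [hq], ← map_pow,
        ← hpo, pow_orderOf_eq_one, map_one]), map_one]
  have hYc : Nat.card Y = Nat.card X := Subgroup.card_map_of_injective (MulAut.conj _).injective
  set Y' := Y.subgroupOf (Cen z) with hY'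
  have hY'c : Nat.card Y' = Nat.card X := by
    rw [hY', Nat.card_congr (Subgroup.subgroupOfEquivOfLe hYH).toEquiv, hYc]
  have himg : Nat.card (Y'.map B.proj) ∣ 9 := by
    refine card_odd_cent_three hqo (Odd.of_dvd_nat (hY'c ▸ hX) (Y'.card_map_dvd B.proj)) ?_
    rintro _ ⟨y, hy, rfl⟩
    rw [mem_centralizer_singleton_iff, ← map_mul, ← map_mul]
    exact congrArg B.proj (Subtype.ext (hqc _ hy))
  have hinter : Nat.card (Y' ⊓ B.proj.ker : Subgroup ↥(Cen z)) ∣ 3 := by
    have h1 : Nat.card (Y' ⊓ B.proj.ker : Subgroup ↥(Cen z)) ∣ 3 * 2 ^ 13 :=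
      Three.ker_card B ▸ Subgroup.card_dvd_of_le inf_le_right
    refine ((Nat.Coprime.pow_right 13 ?_).dvd_of_dvd_mul_right h1)
    exact (Odd.coprime_two_right (Odd.of_dvd_nat (hY'c ▸ hX) (Subgroup.card_dvd_of_le inf_le_left)))
  have h27 : Nat.card X ∣ 27 := by
    have h := Subgroup.card_eq_card_quotient_mul_card_subgroup (B.proj.comp Y'.subtype).ker
    rw [Nat.card_congr (QuotientGroup.quotientKerEquivRange _).toEquiv, MonoidHom.range_comp,
      Subgroup.range_subtype, hY'c] at h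
    rw [h, show (27 : ℕ) = 9 * 3 from rfl]
    refine mul_dvd_mul himg ?_
    refine Eq.mpr (congrArg (· ∣ 3) ?_) hinter
    rw [show (B.proj.comp Y'.subtype).ker = (B.proj.ker).subgroupOf Y' from
      (MonoidHom.comap_ker B.proj Y'.subtype).symm, ← Subgroup.inf_subgroupOf_left,
      Nat.card_congr (Subgroup.subgroupOfEquivOfLe inf_le_left).toEquiv]
  have hne27 : Nat.card X ≠ 27 := fun h => by
    obtain ⟨-, -, h', hh', hcent, -⟩ := Three.struct27 B F hYH (hYc.trans h)
    have hqZ : q ∈ Y ⊓ centralizer (Y : Set G) := ⟨hqY, mem_centralizer_iff.2 hqc⟩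
    rw [hcent] at hqZ
    obtain ⟨p', hp', e⟩ := hqZ
    refine hnc ?_
    rw [show (⟨q, hYH hqY⟩ : ↥(Cen z)) = (⟨h', hh'⟩ : ↥(Cen z)) * ⟨p', B.p_le hp'⟩ *
        (⟨h', hh'⟩ : ↥(Cen z))⁻¹ from Subtype.ext e.symm, map_mul, map_mul, B.proj_p hp', mul_one,
      map_inv, mul_inv_cancel]
  have hd : ∀ m ∈ Nat.divisors 27, m ≠ 27 → m ∣ 9 := by decide +kernel
  exact hd _ (Nat.mem_divisors.2 ⟨h27, by norm_num⟩) hne27

theorem cent_le_cen {D : VData F} (L : Local D) : centralizer (P : Set G) ≤ Cen z := by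
  set K := centralizer (P : Set G) with hK
  have hzK : z ∈ K := B.z_comm_p
  have hiso : IsIsolatedInvolution (⟨z, hzK⟩ : K) := by
    refine ⟨by rw [← Subgroup.orderOf_coe]; exact B.z_ord, fun k hk => Subtype.ext ?_⟩
    exact B.isolated F D k.2 (congrArg Subtype.val hk.eq).symm
  set O := (oddCore K).map K.subtype with hO
  have hOK : O ≤ K := map_subtype_le _
  have hOodd : Odd (Nat.card O) := by
    rw [hO, Subgroup.card_map_of_injective K.subtype_injective]
    exact CfsgLib.Invol.odd_card_oddCore K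
  have hOn : ∀ k ∈ K, ∀ x ∈ O, k * x * k⁻¹ ∈ O := by
    rintro k hk _ ⟨x, hx, rfl⟩
    have : (oddCore K).Normal := by
      have := CfsgLib.Solvable.pPrimeCore_characteristic 2 K
      infer_instance
    exact ⟨⟨k, hk⟩ * x * ⟨k, hk⟩⁻¹, this.conj_mem _ hx _, rfl⟩
  have hzs : ∀ k ∈ K, z * k * z⁻¹ * k⁻¹ ∈ O := fun k hk =>
    ⟨_, CfsgLib.Invol.zstar K hiso ⟨k, hk⟩, rfl⟩
  have hPK : P ≤ K := fun x hx => (B.p_le_C hx).2
  have hPO : P ≤ O := fun x hx => by
    refine ⟨⟨x, hPK hx⟩, CfsgLib.Invol.le_oddCore (N := P.subgroupOf K) ⟨fun a ha b => ?_⟩ ?_ hx,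
      rfl⟩
    · show (b : G) * a * (b : G)⁻¹ ∈ P
      rw [← mem_centralizer_iff.1 b.2 a ha, mul_inv_cancel_right]; exact ha
    · rw [Nat.card_congr (Subgroup.subgroupOfEquivOfLe hPK).toEquiv, B.card_p]; decide
  have hzO : z ∉ O := fun h => by
    have := hOodd.of_dvd_nat (Subgroup.orderOf_dvd_natCard _ h)
    rw [B.z_ord] at this; exact absurd this (by decide)
  have hOC : ∀ x ∈ O, x ∈ Cen z → x ∈ P := by
    intro x hx hxz
    by_cases hout : ∃ k, ∃ hk : k ∈ O ⊓ Cen z, B.proj ⟨k, hk.2⟩ ≠ 1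
    · exfalso
      obtain ⟨k, hk, hne⟩ := hout
      have hle : O ⊓ Cen z ≤ CP z P := fun y hy => ⟨hy.2, hOK hy.1⟩
      exact hzO (B.eq_C_of_normal F L.z_derived hle
        (fun c hc y hy => ⟨hOn c hc.2 y hy.1, Subgroup.mul_mem _ (Subgroup.mul_mem _ hc.1 hy.2) (Subgroup.inv_mem _ hc.1)⟩)
        ⟨k, hk, hne⟩ B.z_mem_C).1
    · push Not at hout
      obtain ⟨p, hp, rfl | rfl⟩ := B.ker_C (⟨hxz, hOK hx⟩ : x ∈ CP z P) (hout x ⟨hx, hxz⟩)
      · exact hp
      · exact absurd (by simpa using mul_mem hx (inv_mem (hPO hp))) hzO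
  -- the quotient by `P` is inverted, so abelian
  set P' := P.subgroupOf O with hP'
  have hP'n : P'.Normal := ⟨fun a ha b => by
    show (b : G) * a * (b : G)⁻¹ ∈ P
    rw [← mem_centralizer_iff.1 (hOK b.2) a ha, mul_inv_cancel_right]; exact ha⟩
  have hcz : ∀ x ∈ O, z * x * z⁻¹ ∈ O := fun x hx => hOn z hzK x hx
  let σ : O →* O :=
    { toFun := fun x => ⟨z * x * z⁻¹, hcz x x.2⟩
      map_one' := Subtype.ext (by simp)
      map_mul' := fun a b => Subtype.ext
        (show z * (a * b : G) * z⁻¹ = z * a * z⁻¹ * (z * b * z⁻¹) by group) }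
  have hσP : P' ≤ P'.comap σ := fun a ha => by
    show z * (a : G) * z⁻¹ ∈ P
    rw [← mem_centralizer_iff.1 hzK a ha, mul_inv_cancel_right]; exact ha
  let τ : O ⧸ P' →* O ⧸ P' := QuotientGroup.map P' P' σ hσP
  have hfpf : MonoidHom.FixedPointFree τ := by
    intro q hq
    obtain ⟨x, rfl⟩ := QuotientGroup.mk_surjective q
    rw [QuotientGroup.eq_one_iff]
    have h0 : x⁻¹ * σ x ∈ P' :=
      QuotientGroup.eq.1 (show (x : O ⧸ P') = ((σ x : O) : O ⧸ P') from hq.symm)
    have h : (x : G)⁻¹ * (z * x * z⁻¹) ∈ P := h0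
    set p := (x : G)⁻¹ * (z * x * z⁻¹) with hp
    have hzx : z * x * z⁻¹ = x * p := by rw [hp, mul_inv_cancel_left]
    have hzp : z * p = p * z := B.comm_p B.z_mem_C h
    have hzx' : z * x = x * p * z := mul_inv_eq_iff_eq_mul.1 hzx
    have hpp : p * p = 1 := by
      have e2 : (x : G) = x * (p * p) := by
        calc (x : G) = (z * z) * x := by rw [B.zz, one_mul]
          _ = z * (z * x) := by group
          _ = z * (x * p * z) := by rw [hzx']
          _ = (z * x) * (p * z) := by group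
          _ = x * p * (z * p) * z := by rw [hzx']; group
          _ = x * (p * p) * (z * z) := by rw [hzp]; group
          _ = x * (p * p) := by rw [B.zz, mul_one]
      exact left_eq_mul.1 e2
    have hp3 : p ^ 3 = 1 := by
      have := congrArg Subtype.val (pow_card_eq_one' (x := (⟨p, h⟩ : P)))
      rwa [B.card_p] at this
    rw [pow_succ, pow_two, hpp, one_mul] at hp3
    rw [hp3, mul_one] at hzx'
    exact hOC x x.2 (B.mem_cen.2 hzx'.symm)
  have hinvol : Function.Involutive τ := fun q => by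
    obtain ⟨x, rfl⟩ := QuotientGroup.mk_surjective q
    show ((σ (σ x) : O) : O ⧸ P') = x
    congr 1
    refine Subtype.ext ?_
    show z * (z * x * z⁻¹) * z⁻¹ = x
    rw [show z * (z * x * z⁻¹) * z⁻¹ = (z * z) * x * (z * z)⁻¹ by group, B.zz]; simp
  have hcomm : ∀ a ∈ O, ∀ b ∈ O, a * b * a⁻¹ * b⁻¹ ∈ P := by
    intro a ha b hb
    have h := hfpf.commute_all_of_involutive hinvol ((⟨a, ha⟩ : O) : O ⧸ P')
      ((⟨b, hb⟩ : O) : O ⧸ P')
    have h0 : ((⟨a, ha⟩ : O) * ⟨b, hb⟩)⁻¹ * (⟨b, hb⟩ * ⟨a, ha⟩) ∈ P' := QuotientGroup.eq.1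
      (show (((⟨a, ha⟩ : O) * ⟨b, hb⟩ : O) : O ⧸ P') = ((⟨b, hb⟩ : O) * ⟨a, ha⟩ : O) from h.eq)
    have h' : (a * b)⁻¹ * (b * a) ∈ P := h0
    have hc : ((a * b)⁻¹ * (b * a))⁻¹ ∈ P := inv_mem h'
    have := mem_centralizer_iff.1 (mul_mem (hOK hb) (hOK ha) : b * a ∈ K) _ hc
    have e : a * b * a⁻¹ * b⁻¹ = b * a * ((a * b)⁻¹ * (b * a))⁻¹ * (b * a)⁻¹ := by group
    rw [e, ← this, mul_inv_cancel_right]; exact hc
  have hnorm : ∀ A : Subgroup G, P ≤ A → A ≤ O → O ≤ normalizer (A : Set G) := by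
    intro A hPA hAO
    have step : ∀ o ∈ O, ∀ a ∈ A, o * a * o⁻¹ ∈ A := fun o ho a ha => by
      have := mul_mem (hPA (hcomm o ho a (hAO ha))) ha
      rwa [inv_mul_cancel_right] at this
    intro o ho
    rw [mem_normalizer_iff]
    refine fun a => ⟨step o ho a, fun h => ?_⟩
    simpa [mul_assoc] using step o⁻¹ (inv_mem ho) _ h
  -- bound by the three involutions
  obtain ⟨a, b, ⟨haV, haP⟩, ⟨hbV, hbP⟩, haz, hbz, habz, ha1, hb1, hab, hza, hzb, hzab⟩ := L.klein
  have habV : a * b ∈ D.V := mul_mem haV hbV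
  have habP : a * b ∈ K := mul_mem haP hbP
  let A : Subgroup G :=
    { carrier := {x | x = 1 ∨ x = a ∨ x = b ∨ x = a * b}
      one_mem' := Or.inl rfl
      mul_mem' := by
        have e1 : b * a = a * b := V_comm D hbV haV
        have e2 := V_sq D haV
        have e3 := V_sq D hbV
        have e4 : a * (a * b) = b := by rw [← mul_assoc, e2, one_mul]
        have e5 : a * b * a = b := by rw [← e1, mul_assoc, e2, mul_one]
        have e6 : b * (a * b) = a := by rw [← e1, ← mul_assoc, e3, one_mul]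
        have e7 : a * b * b = a := by rw [mul_assoc, e3, mul_one]
        have e8 : a * b * (a * b) = 1 := V_sq D habV
        rintro x y (rfl | rfl | rfl | rfl) (rfl | rfl | rfl | rfl) <;>
          simp [e1, e2, e3, e4, e5, e6, e7, e8]
      inv_mem' := by
        rintro x (rfl | rfl | rfl | rfl)
        · exact Or.inl inv_one
        · exact Or.inr (Or.inl (inv_eq_of_mul_eq_one_right (V_sq D haV)))
        · exact Or.inr (Or.inr (Or.inl (inv_eq_of_mul_eq_one_right (V_sq D hbV))))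
        · exact Or.inr (Or.inr (Or.inr (inv_eq_of_mul_eq_one_right (V_sq D habV)))) }
  have hAV : A ≤ D.V := by
    rintro x (rfl | rfl | rfl | rfl)
    exacts [one_mem _, haV, hbV, habV]
  have hAK : A ≤ K := by
    rintro x (rfl | rfl | rfl | rfl)
    exacts [one_mem _, haP, hbP, habP]
  have hab1 : a * b ≠ 1 := fun e => hab (by
    rw [eq_inv_of_mul_eq_one_left e, inv_eq_of_mul_eq_one_right (V_sq D hbV)])
  have hA4 : Nat.card A = 4 := by
    have : (A : Set G) = {1, a, b, a * b} := by ext x; simp [A]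
    rw [← SetLike.coe_sort_coe, Nat.card_coe_set_eq, this, Set.ncard_insert_of_notMem,
      Set.ncard_insert_of_notMem, Set.ncard_pair]
    · exact fun e => ha1 (by simpa using e)
    · simp only [Set.mem_insert_iff, Set.mem_singleton_iff]
      rintro (e | e)
      exacts [hab e, hb1 (by simpa using e)]
    · simp only [Set.mem_insert_iff, Set.mem_singleton_iff]
      rintro (e | e | e)
      exacts [ha1 e.symm, hb1 e.symm, hab1 e.symm]
  have hAcomm : IsMulCommutative A :=
    ⟨⟨fun x y => Subtype.ext (V_comm D (hAV x.2) (hAV y.2))⟩⟩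
  have hAnc : ¬ IsCyclic A := fun h => by
    obtain ⟨g, hg⟩ := IsCyclic.exists_ofOrder_eq_natCard (α := A)
    have : orderOf g ∣ 2 := orderOf_dvd_of_pow_eq_one (Subtype.ext (by
      simpa [pow_two] using V_sq D (hAV g.2)))
    rw [hg, hA4] at this; norm_num at this
  have hAn : A ≤ normalizer (O : Set G) := fun x hx => by
    rw [mem_normalizer_iff]
    refine fun y => ⟨hOn x (hAK hx) y, fun h => ?_⟩
    simpa [mul_assoc] using hOn x⁻¹ (inv_mem (hAK hx)) _ h
  have hcop : (Nat.card A).Coprime (Nat.card O) := by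
    rw [hA4, show 4 = 2 ^ 2 from rfl]
    exact (hOodd.coprime_two_left).pow_left 2
  have hbound : ∀ t, t ∈ D.V → t ∈ K → t ≠ z → IsConj z t →
      Nat.card ↥(O ⊓ centralizer ({t} : Set G)) ∣ 9 := by
    intro t htV htP htz ht
    obtain ⟨g, rfl⟩ := isConj_iff.1 ht
    refine B.card_odd_cent F D htV htP htz (hOodd.of_dvd_nat (Subgroup.card_dvd_of_le inf_le_left))
      (fun x hx => ⟨hPO hx, mem_centralizer_singleton_iff.2 ?_⟩) (inf_le_left.trans hOK) inf_le_right
    exact mem_centralizer_iff.1 htP x hx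
  have hPle : ∀ t ∈ K, P ≤ O ⊓ centralizer ({t} : Set G) := fun t ht x hx =>
    ⟨hPO hx, mem_centralizer_singleton_iff.2 (mem_centralizer_iff.1 ht x hx)⟩
  have hO81 : Nat.card O ∣ 81 := by
    have hgen : O = O ⊓ centralizer ({a} : Set G) ⊔ (O ⊓ centralizer ({b} : Set G)) ⊔
        (O ⊓ centralizer ({a * b} : Set G)) := by
      refine le_antisymm ?_ (sup_le (sup_le inf_le_left inf_le_left) inf_le_left)
      conv_lhs => rw [← CfsgLib.Coprime.iSup_centralizer_eq hAcomm hAnc hAn hcop]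
      refine iSup_le ?_
      rintro ⟨t, ht, ht1⟩
      rcases ht with h | h | h | h
      · exact absurd h ht1
      · subst h; exact le_sup_left.trans le_sup_left
      · subst h; exact le_sup_right.trans le_sup_left
      · subst h; exact le_sup_right
    rw [hgen]
    exact card_join_three (O := O) B.card_p (hPle a haP) (hPle b hbP) (hPle _ habP)
      (hbound a haV haP haz hza) (hbound b hbV hbP hbz hzb) (hbound _ habV habP habz hzab)
      inf_le_left inf_le_left inf_le_left hnorm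
  -- an element of order eleven
  have : Fact (Nat.Prime 11) := ⟨by norm_num⟩
  obtain ⟨⟨c, hc⟩, hco⟩ := exists_prime_orderOf_dvd_card' (G := CP z P) 11
    (by rw [B.card_C F]; norm_num)
  rw [Subgroup.orderOf_mk] at hco
  have hcn : c ∈ normalizer (O : Set G) := by
    rw [mem_normalizer_iff]
    refine fun y => ⟨hOn c hc.2 y, fun h => ?_⟩
    simpa [mul_assoc] using hOn c⁻¹ (inv_mem hc.2) _ h
  set L0 := CP z P ⊓ centralizer (O : Set G) with hL0
  have hcL : c ∈ L0 :=
    ⟨hc, mem_centralizer_iff.2 fun x hx => (eleven_centralises hco hO81 hcn x hx).symm⟩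
  have hcne : B.proj ⟨c, hc.1⟩ ≠ 1 := fun h => by
    have h6 : c ^ 6 = 1 := by
      obtain ⟨p, hp, e⟩ := B.ker_C hc h
      have hp6 : p ^ 6 = 1 := by
        have := congrArg Subtype.val (pow_card_eq_one' (x := (⟨p, hp⟩ : P)))
        rw [B.card_p] at this
        rw [show (6 : ℕ) = 3 * 2 from rfl, pow_mul]
        rw [show p ^ 3 = 1 from this, one_pow]
      rcases e with rfl | rfl
      · exact hp6
      · rw [(show Commute z p from B.comm_p B.z_mem_C hp).mul_pow, hp6, mul_one,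
          show (6 : ℕ) = 2 * 3 from rfl, pow_mul, pow_two, B.zz, one_pow]
    have := orderOf_dvd_of_pow_eq_one h6
    rw [hco] at this; norm_num at this
  have hle := B.eq_C_of_normal F L.z_derived (K := L0) inf_le_left
    (fun d hd k hk => ⟨Subgroup.mul_mem _ (Subgroup.mul_mem _ hd hk.1) (Subgroup.inv_mem _ hd), mem_centralizer_iff.2 fun x hx => by
      have hx' : d⁻¹ * x * d ∈ O := by simpa using hOn d⁻¹ (inv_mem hd.2) x hx
      calc x * (d * k * d⁻¹) = d * (d⁻¹ * x * d * k) * d⁻¹ := by group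
        _ = d * (k * (d⁻¹ * x * d)) * d⁻¹ := by rw [mem_centralizer_iff.1 hk.2 _ hx']
        _ = d * k * d⁻¹ * x := by group⟩)
    ⟨c, hcL, hcne⟩
  have hOP : O ≤ P := fun x hx => hOC x hx
    (B.mem_cen.2 (mem_centralizer_iff.1 (hle B.z_mem_C).2 x hx))
  intro k hk
  have ho := hOP (hzs k hk)
  set o := z * k * z⁻¹ * k⁻¹ with ho'
  have e1 : z * k = o * k * z := by rw [ho']; group
  have hzo : z * o = o * z := B.comm_p B.z_mem_C ho
  have hoo : o * o = 1 := by
    have e2 : k = (o * o) * k := by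
      calc k = (z * z) * k := by rw [B.zz, one_mul]
        _ = z * (z * k) := by group
        _ = (z * o) * (k * z) := by rw [e1]; group
        _ = o * (z * k) * z := by rw [hzo]; group
        _ = (o * o) * k * (z * z) := by rw [e1]; group
        _ = (o * o) * k := by rw [B.zz, mul_one]
    exact right_eq_mul.1 e2
  have ho3 : o ^ 3 = 1 := by
    have := congrArg Subtype.val (pow_card_eq_one' (x := (⟨o, ho⟩ : P)))
    rwa [B.card_p] at this
  rw [pow_succ, pow_two, hoo, one_mul] at ho3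
  rw [ho3, one_mul] at e1
  exact B.mem_cen.2 e1.symm

theorem normalizer_le_cen {D : VData F} (L : Local D) :
    normalizer (P : Set G) ≤ Cen z := by
  intro n hn
  have hK := B.cent_le_cen F L
  have hmove : ∀ m ∈ normalizer (P : Set G), ∀ k ∈ centralizer (P : Set G),
      m * k * m⁻¹ ∈ centralizer (P : Set G) := by
    intro m hm k hk
    rw [mem_centralizer_iff]
    intro p hp
    have hp' : m⁻¹ * p * m ∈ P := (mem_normalizer_iff''.1 hm p).1 hp
    calc p * (m * k * m⁻¹) = m * (m⁻¹ * p * m * k) * m⁻¹ := by group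
      _ = m * (k * (m⁻¹ * p * m)) * m⁻¹ := by rw [mem_centralizer_iff.1 hk _ hp']
      _ = m * k * m⁻¹ * p := by group
  have hw := hmove n hn z B.z_comm_p
  have hwz : n * z * n⁻¹ = z := by
    refine B.center_invol F ⟨hK hw, hw⟩ ?_ fun y hy => ?_
    · rw [show n * z * n⁻¹ = MulAut.conj n z from rfl, MulEquiv.orderOf_eq, B.z_ord]
    · have h1 : n⁻¹ * y * n ∈ Cen z := hK (by simpa using hmove n⁻¹ (inv_mem hn) y hy.2)
      calc y * (n * z * n⁻¹) = n * (n⁻¹ * y * n * z) * n⁻¹ := by group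
        _ = n * (z * (n⁻¹ * y * n)) * n⁻¹ := by rw [B.comm_z h1]
        _ = n * z * n⁻¹ * y := by group
  exact B.mem_cen.2 (mul_inv_eq_iff_eq_mul.1 hwz)

end Base

end CfsgLib.J4Type.CoreP
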