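import Cfsg.Agent.Lib.J4Type.CoreP.Basic

/-!
The centraliser of `P` in the centraliser of the involution is the perfect sixfold cover of `M22`.
-/

set_option autoImplicit false
set_option linter.unusedSectionVars false

namespace CfsgLib.J4Type.CoreP

open Cfsg Subgroup
open scoped commutatorElement

variable {G : Type*} [Group G] [Finite G] {z : G} {P : Subgroup G}

namespace Base

variable (B : Base z P) (F : Frame z P)
include B F

theorem C_perfect (hd : z ∈ ⁅CP z P, CP z P⁆) : ⁅CP z P, CP z P⁆ = CP z P := by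
  refine le_antisymm (commutator_le.2 fun a ha b hb => ?_) fun c hc => ?_
  · exact mul_mem (mul_mem (mul_mem ha hb) (inv_mem ha)) (inv_mem hb)
  · have hm : B.proj ⟨c, hc.1⟩ ∈ ⁅InnM, InnM⁆ := by
      rw [inn_commutator]; exact B.inn_of_mem_C F hc
    rw [← B.map_C F, ← map_commutator] at hm
    obtain ⟨⟨d, hd0⟩, hdm, heq⟩ := hm
    have hdC : d ∈ ⁅CP z P, CP z P⁆ := by
      have := Subgroup.mem_map_of_mem (Cen z).subtype hdm
      rw [map_commutator, subgroupOf_map_subtype, inf_eq_left.2 B.C_le_cen] at this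
      exact this
    have hdC' : d ∈ CP z P := (commutator_le.2 fun a ha b hb =>
      mul_mem (mul_mem (mul_mem ha hb) (inv_mem ha)) (inv_mem hb)) hdC
    have hk : B.proj ⟨d⁻¹ * c, mul_mem (inv_mem hd0) hc.1⟩ = 1 := by
      rw [show (⟨d⁻¹ * c, _⟩ : ↥(Cen z)) = (⟨d, hd0⟩ : ↥(Cen z))⁻¹ * ⟨c, hc.1⟩ from rfl, map_mul,
        map_inv, heq, inv_mul_cancel]
    obtain ⟨p, hp, h | h⟩ := B.ker_C (mul_mem (inv_mem hdC') hc) hk
    · rw [← mul_inv_cancel_left d c, h]
      exact mul_mem hdC (B.p_derived hp)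
    · rw [← mul_inv_cancel_left d c, h]
      exact mul_mem hdC (mul_mem hd (B.p_derived hp))

omit F in
theorem central_of_ker {c : G} (hc : c ∈ CP z P) (h : B.proj ⟨c, hc.1⟩ = 1) {y : G}
    (hy : y ∈ CP z P) : y * c = c * y := by
  obtain ⟨p, hp, rfl | rfl⟩ := B.ker_C hc h
  · exact B.comm_p hy hp
  · rw [← mul_assoc, B.comm_z hy.1, mul_assoc, B.comm_p hy hp, mul_assoc]

theorem mem_center_iff_proj (c : ↥(CP z P)) :
    c ∈ Subgroup.center ↥(CP z P) ↔ B.proj ⟨(c : G), c.2.1⟩ = 1 := by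
  constructor
  · intro hc
    obtain ⟨m, hm⟩ := B.inn_of_mem_C F c.2
    have : m ∈ Subgroup.center M := Subgroup.mem_center_iff.2 fun a => conj_injective <| by
      obtain ⟨d, hd, hda⟩ := B.exists_C F (φ := MulAut.conj a) ⟨a, rfl⟩
      rw [map_mul, map_mul, hm, ← hda, ← map_mul, ← map_mul]
      exact congrArg B.proj (Subtype.ext
        (show d * (c : G) = c * d from congrArg Subtype.val (Subgroup.mem_center_iff.1 hc ⟨d, hd⟩)))
    rw [center_M22, mem_bot] at this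
    rw [← hm, this, map_one]
  · intro h
    exact Subgroup.mem_center_iff.2 fun y => Subtype.ext (B.central_of_ker c.2 h y.2)

/-- A generator of the centre. -/
theorem center_gen : ∃ g : ↥(CP z P), orderOf g = 6 ∧ Subgroup.center ↥(CP z P) = zpowers g := by
  obtain ⟨p, hpo, hPp⟩ := B.exists_gen
  have hp : p ∈ P := hPp ▸ mem_zpowers p
  have hc : z * p ∈ CP z P := mul_mem B.z_mem_C (B.p_le_C hp)
  have hzp : Commute z p := (B.comm_p B.z_mem_C hp)
  refine ⟨⟨z * p, hc⟩, ?_, le_antisymm ?_ ?_⟩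
  · rw [← Subgroup.orderOf_coe,
      hzp.orderOf_mul_eq_mul_orderOf_of_coprime (by rw [B.z_ord, hpo]; norm_num), B.z_ord, hpo]
  · intro c hcc
    rw [B.mem_center_iff_proj F] at hcc
    obtain ⟨x, hx, h⟩ := B.ker_C c.2 hcc
    obtain ⟨k, hk⟩ := (IsOfFinOrder.mem_powers_iff_mem_zpowers (isOfFinOrder_of_finite p)).2
      (hPp ▸ hx : x ∈ zpowers p)
    simp only at hk
    have hz4 : z ^ 4 = 1 := by rw [show (4 : ℕ) = 2 + 2 from rfl, pow_add, pow_two, B.zz, one_mul]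
    have hp3 : p ^ 3 = 1 := hpo ▸ pow_orderOf_eq_one p
    rcases h with h | h
    · refine ⟨((4 * k : ℕ) : ℤ), Subtype.ext ?_⟩
      rw [Subgroup.coe_zpow, zpow_natCast, hzp.mul_pow, pow_mul z, hz4, one_pow, one_mul, h, ← hk,
        show 4 * k = 3 * k + k by ring, pow_add, pow_mul, hp3, one_pow, one_mul]
    · refine ⟨((4 * k + 3 : ℕ) : ℤ), Subtype.ext ?_⟩
      rw [Subgroup.coe_zpow, zpow_natCast, hzp.mul_pow, pow_add z, pow_mul z, hz4, one_pow, one_mul,
        h, ← hk, show 4 * k + 3 = 3 * (k + 1) + k by ring, pow_add, pow_mul, hp3, one_pow, one_mul,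
        show z ^ 3 = z by rw [pow_succ, pow_two, B.zz, one_mul]]
  · rw [zpowers_le, B.mem_center_iff_proj F]
    rw [show (⟨z * p, _⟩ : ↥(Cen z)) = ⟨z, B.rad_le B.z_rad⟩ * ⟨p, B.p_le hp⟩ from rfl, map_mul,
      B.proj_rad B.z_rad, B.proj_p hp, one_mul]

theorem center_card : Nat.card ↥(Subgroup.center ↥(CP z P)) = 6 := by
  obtain ⟨g, hg, he⟩ := B.center_gen F
  rw [he, Nat.card_zpowers, hg]

theorem center_cyclic : IsCyclic ↥(Subgroup.center ↥(CP z P)) := by
  obtain ⟨g, -, he⟩ := B.center_gen F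
  rw [he]; infer_instance

/-- The projection of `C_H(P)` onto `M22`. -/
theorem exists_hom : ∃ θ : ↥(CP z P) →* InnM, Function.Surjective θ ∧
    θ.ker = Subgroup.center ↥(CP z P) := by
  refine ⟨(B.proj.comp (Subgroup.inclusion B.C_le_cen)).codRestrict InnM
    fun c => B.inn_of_mem_C F c.2, fun φ => ?_, ?_⟩
  · obtain ⟨c, hc, h⟩ := B.exists_C F φ.2
    exact ⟨⟨c, hc⟩, Subtype.ext h⟩
  · ext c
    rw [MonoidHom.mem_ker, B.mem_center_iff_proj F, ← Subtype.val_inj]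
    rfl

theorem center_quot : Spor.IsoM22 (↥(CP z P) ⧸ Subgroup.center ↥(CP z P)) := by
  obtain ⟨θ, hs, hk⟩ := B.exists_hom F
  exact ⟨((QuotientGroup.quotientMulEquivOfEq hk.symm).trans
    (QuotientGroup.quotientKerEquivOfSurjective θ hs)).trans
    (MonoidHom.ofInjective conj_injective).symm⟩

theorem card_C : Nat.card (CP z P) = 2661120 := by
  obtain ⟨θ, hs, hk⟩ := B.exists_hom F
  rw [Subgroup.card_eq_card_quotient_mul_card_subgroup θ.ker,
    Nat.card_congr (QuotientGroup.quotientKerEquivOfSurjective θ hs).toEquiv, card_inn, hk,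
    B.center_card F]

/-- The centre contains a unique involution. -/
theorem center_invol {t : G} (ht : t ∈ CP z P) (h2 : orderOf t = 2)
    (hc : ∀ y ∈ CP z P, y * t = t * y) : t = z := by
  have h := (B.mem_center_iff_proj F ⟨t, ht⟩).1
    (Subgroup.mem_center_iff.2 fun y => Subtype.ext (hc y y.2))
  obtain ⟨p, hp, rfl | rfl⟩ := B.ker_C ht h
  · have := Subgroup.orderOf_dvd_natCard _ hp
    rw [h2, B.card_p] at this; norm_num at this
  · have hzp : Commute z p := B.comm_p B.z_mem_C hp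
    have h3 := Subgroup.orderOf_dvd_natCard _ hp
    rw [B.card_p] at h3
    rw [hzp.orderOf_mul_eq_mul_orderOf_of_coprime
      (by rw [B.z_ord]; exact Nat.Coprime.coprime_dvd_right h3 (by norm_num)), B.z_ord] at h2
    rw [orderOf_eq_one_iff.1 (show orderOf p = 1 by omega), mul_one]

/-- A subgroup of `C_H(P)` normalised by it, not inside the kernel, is all of it. -/
theorem eq_C_of_normal (hd : z ∈ ⁅CP z P, CP z P⁆) {K : Subgroup G} (hK : K ≤ CP z P)
    (hn : ∀ c ∈ CP z P, ∀ k ∈ K, c * k * c⁻¹ ∈ K)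
    (hout : ∃ k, ∃ hk : k ∈ K, B.proj ⟨k, (hK hk).1⟩ ≠ 1) : CP z P ≤ K := by
  obtain ⟨θ, hs, hk⟩ := B.exists_hom F
  have : (K.subgroupOf (CP z P)).Normal := ⟨fun a ha b => hn b b.2 a ha⟩
  have := isSimple_inn
  have hne : (K.subgroupOf (CP z P)).map θ ≠ ⊥ := by
    obtain ⟨k, hkK, hne⟩ := hout
    intro h
    rw [Subgroup.map_eq_bot_iff, hk] at h
    exact hne ((B.mem_center_iff_proj F ⟨k, hK hkK⟩).1 (h hkK))
  have htop : (K.subgroupOf (CP z P)).map θ = ⊤ :=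
    ((inferInstance : (K.subgroupOf (CP z P)).Normal).map θ hs).eq_bot_or_eq_top.resolve_left hne
  intro c hc
  rw [← B.C_perfect F hd] at hc
  refine (commutator_le.2 fun a ha b hb => ?_) hc
  have key : ∀ a ∈ CP z P, ∃ k ∈ K, ∃ w, ∃ _ : w ∈ CP z P,
      (∀ y ∈ CP z P, y * w = w * y) ∧ a = k * w := by
    intro a ha
    obtain ⟨⟨k, hkC⟩, hkK, he⟩ : θ ⟨a, ha⟩ ∈ (K.subgroupOf (CP z P)).map θ := htop ▸ mem_top _
    have hw : (⟨k, hkC⟩ : ↥(CP z P))⁻¹ * ⟨a, ha⟩ ∈ θ.ker := by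
      rw [MonoidHom.mem_ker, map_mul, map_inv, he, inv_mul_cancel]
    rw [hk] at hw
    exact ⟨k, hkK, k⁻¹ * a, mul_mem (inv_mem hkC) ha,
      fun y hy => congrArg Subtype.val (Subgroup.mem_center_iff.1 hw ⟨y, hy⟩),
      (mul_inv_cancel_left _ _).symm⟩
  obtain ⟨k, hk1, w, hwC, hw, rfl⟩ := key a ha
  obtain ⟨l, hl1, v, hvC, hv, rfl⟩ := key b hb
  have e1 : Commute w (l * v) := (hw _ hb).symm
  have e2 : Commute v k := (hv _ (hK hk1)).symm
  have : ⁅k * w, l * v⁆ = ⁅k, l⁆ := by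
    rw [commutatorElement_def, commutatorElement_def, mul_inv_rev, mul_inv_rev]
    calc k * w * (l * v) * (w⁻¹ * k⁻¹) * (v⁻¹ * l⁻¹)
        = k * (w * (l * v) * w⁻¹) * k⁻¹ * (v⁻¹ * l⁻¹) := by group
      _ = k * (l * v) * k⁻¹ * (v⁻¹ * l⁻¹) := by rw [e1.eq, mul_inv_cancel_right]
      _ = k * l * (v * k⁻¹) * (v⁻¹ * l⁻¹) := by group
      _ = k * l * (k⁻¹ * v) * (v⁻¹ * l⁻¹) := by rw [(e2.inv_right).eq]
      _ = k * l * k⁻¹ * l⁻¹ := by group
  rw [this]
  exact mul_mem (mul_mem (mul_mem hk1 hl1) (inv_mem hk1)) (inv_mem hl1)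

end Base

end CfsgLib.J4Type.CoreP
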