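import Cfsg.Agent.Lib.J4Type.Three.Mats
import Cfsg.Agent.Lib.J4Type.CoreP.Cent

/-!
A conjugate of `P` fixing another conjugate of the involution in `V` is not without fixed points on
the radical.
-/

set_option autoImplicit false
set_option linter.unusedSectionVars false

namespace CfsgLib.J4Type.CoreP

open Cfsg Subgroup

variable {G : Type*} [Group G] [Finite G] {z : G} {P : Subgroup G}

/-- A product of two signs. -/
theorem sign_mul {H : Type*} [Group H] {t : H} (h1 : t ≠ 1) (h2 : t * t = 1) {a b c : Bool}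
    (h : (if c then t else 1) = (if a then t else 1) * (if b then t else 1)) :
    c = Bool.xor a b := by
  cases a <;> cases b <;> cases c <;> simp_all [Ne.symm h1]

namespace Base

variable (B : Base z P) (F : Frame z P)

include F in
theorem co_one : F.co 1 = 0 := (F.co_eq_zero 1 (one_mem _)).2 (Or.inl rfl)

include F in
theorem co_inv {x : G} (hx : x ∈ Rad z) : F.co x⁻¹ = F.co x := by
  have h := F.co_mul _ (inv_mem hx) _ hx
  rw [inv_mul_cancel, co_one F] at h
  exact (Nat.xor_eq_zero_iff.1 h.symm)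

include B F in
theorem co_eq {x y : G} (hx : x ∈ Rad z) (hy : y ∈ Rad z) (h : F.co x = F.co y) :
    x = y ∨ x = y * z := by
  have h1 : F.co (y⁻¹ * x) = 0 := by
    rw [F.co_mul _ (inv_mem hy) _ hx, co_inv F hy, h, Nat.xor_self]
  rcases (F.co_eq_zero _ (mul_mem (inv_mem hy) hx)).1 h1 with e | e
  · exact Or.inl (inv_mul_eq_one.1 e).symm
  · exact Or.inr (by rw [← e, mul_inv_cancel_left])

theorem V_comm {F : Frame z P} (D : VData F) {a b : G} (ha : a ∈ D.V) (hb : b ∈ D.V) :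
    a * b = b * a :=
  congrArg Subtype.val (D.elem.1.1.comm (⟨a, ha⟩ : D.V) ⟨b, hb⟩)

theorem V_sq {F : Frame z P} (D : VData F) {a : G} (ha : a ∈ D.V) : a * a = 1 := by
  have := congrArg Subtype.val (show (⟨a, ha⟩ : D.V) ^ 2 = 1 from Subtype.ext (by
    simpa using D.elem.2 a ha))
  simpa [pow_two] using this

include B F in
theorem card_V_rad (D : VData F) : Nat.card ↥(D.V ⊓ Rad z : Subgroup G) = 128 := by
  have hl : ∀ i : Fin 64, ∃ x ∈ Rad z, F.co x = i.1 := fun i => F.co_surj _ (by omega)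
  choose l hlR hlc using hl
  let f : Fin 64 × Bool → ↥(D.V ⊓ Rad z : Subgroup G) := fun q =>
    ⟨l q.1 * (bif q.2 then z else 1), by
      have h : (bif q.2 then z else 1) ∈ D.V ⊓ Rad z := by
        cases q.2
        · exact one_mem _
        · exact ⟨D.z_mem, B.z_rad⟩
      exact mul_mem ⟨(D.rad _ (hlR q.1)).2 (by rw [hlc]; exact q.1.2), hlR q.1⟩ h⟩
  have hco : ∀ q, F.co (f q : G) = q.1.1 := fun q => by
    show F.co (l q.1 * (bif q.2 then z else 1)) = q.1.1
    cases q.2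
    · rw [cond_false, mul_one, hlc]
    · rw [cond_true, F.co_mul _ (hlR _) _ B.z_rad, (F.co_eq_zero z B.z_rad).2 (Or.inr rfl),
        Nat.xor_zero, hlc]
  have hb : Function.Bijective f := by
    constructor
    · rintro ⟨i, b⟩ ⟨i', b'⟩ h
      have hi : i = i' := Fin.ext (by
        have := hco (i, b); rw [h, hco] at this; exact this.symm)
      subst hi
      have e : (bif b then z else 1) = (bif b' then z else 1) :=
        mul_left_cancel (congrArg Subtype.val h)
      cases b <;> cases b' <;> simp_all [B.z_ne_one, Ne.symm B.z_ne_one]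
    · rintro ⟨x, hxV, hxR⟩
      have hlt := (D.rad x hxR).1 hxV
      rcases B.co_eq F hxR (hlR ⟨_, hlt⟩) (hlc ⟨_, hlt⟩).symm with e | e
      · exact ⟨(⟨_, hlt⟩, false), Subtype.ext (by
          show l ⟨_, hlt⟩ * 1 = x
          rw [mul_one, ← e])⟩
      · exact ⟨(⟨_, hlt⟩, true), Subtype.ext e.symm⟩
  rw [← Nat.card_congr (Equiv.ofBijective f hb), Nat.card_prod, Nat.card_fin,
    Nat.card_eq_fintype_card, Fintype.card_bool]

theorem conj_eq_map (g : G) {X : Subgroup G} {x : G} :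
    x ∈ X.map (MulAut.conj g).toMonoidHom ↔ g⁻¹ * x * g ∈ X := by
  rw [mem_map_equiv, MulAut.conj_symm_apply]

include B F in
/-- The conjugates of `V` inside `H` meet the radical like `V`. -/
theorem card_conj_V_rad (D : VData F) {g : G} (hj : g * z * g⁻¹ ∈ D.V) :
    Nat.card ↥(D.V ⊓ (Rad z).map (MulAut.conj g).toMonoidHom : Subgroup G) = 128 := by
  have : Fact (Nat.Prime 2) := ⟨Nat.prime_two⟩
  set A := D.V.map (MulAut.conj g⁻¹).toMonoidHom with hA
  have hAH : A ≤ Cen z := fun x hx => by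
    rw [hA, conj_eq_map, inv_inv] at hx
    refine B.mem_cen.2 ((MulAut.conj g).injective ?_)
    simp only [map_mul, MulAut.conj_apply]
    exact V_comm D hx hj
  have hp : ∀ W : Subgroup G, IsElementaryAbelian 2 W → IsPGroup 2 W := fun W hW x =>
    ⟨1, by simpa using Subtype.ext (by simpa using hW.2 _ x.2)⟩
  have hAel : IsElementaryAbelian 2 A := by
    refine ⟨⟨⟨?_⟩⟩, ?_⟩
    · rintro ⟨_, a, ha, rfl⟩ ⟨_, b, hb, rfl⟩
      refine Subtype.ext ?_
      show (MulAut.conj g⁻¹) a * (MulAut.conj g⁻¹) b = (MulAut.conj g⁻¹) b * (MulAut.conj g⁻¹) a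
      rw [← map_mul, ← map_mul, V_comm D ha hb]
    · rintro _ ⟨a, ha, rfl⟩
      rw [← map_pow, pow_two, V_sq D ha, map_one]
  obtain ⟨T, hT⟩ := ((hp _ D.elem).comap_subtype (K := Cen z)).exists_le_sylow
  obtain ⟨T', hT'⟩ := ((hp _ hAel).comap_subtype (K := Cen z)).exists_le_sylow
  obtain ⟨h, hh⟩ := MulAction.exists_smul_eq ↥(Cen z) T' T
  obtain ⟨T2, hT2⟩ := (T.2.map (Cen z).subtype).exists_le_sylow
  have heq : D.V = A.map (MulAut.conj (h : G)).toMonoidHom := by
    refine D.unique T2 _ _ (fun v hv => hT2 ⟨⟨v, D.le_cen hv⟩, hT hv, rfl⟩) ?_ D.elem D.card ?_ ?_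
    · rintro _ ⟨a, ha, rfl⟩
      refine hT2 ⟨h * ⟨a, hAH ha⟩ * h⁻¹, ?_, rfl⟩
      rw [← hh]
      exact ⟨⟨a, hAH ha⟩, hT' ha, rfl⟩
    · refine ⟨⟨⟨?_⟩⟩, ?_⟩
      · rintro ⟨_, a, ha, rfl⟩ ⟨_, b, hb, rfl⟩
        refine Subtype.ext ?_
        show (MulAut.conj (h : G)) a * (MulAut.conj (h : G)) b =
          (MulAut.conj (h : G)) b * (MulAut.conj (h : G)) a
        have hab : a * b = b * a := congrArg Subtype.val (hAel.1.1.comm (⟨a, ha⟩ : A) ⟨b, hb⟩)
        rw [← map_mul, ← map_mul, hab]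
      · rintro _ ⟨a, ha, rfl⟩
        rw [← map_pow, hAel.2 a ha, map_one]
    · rw [hA, Subgroup.card_map_of_injective (MulAut.conj _).injective,
        Subgroup.card_map_of_injective (MulAut.conj _).injective, D.card]
  have e1 : (D.V ⊓ Rad z) = (A ⊓ Rad z).map (MulAut.conj (h : G)).toMonoidHom := by
    ext x
    rw [conj_eq_map, mem_inf, mem_inf, heq, conj_eq_map]
    refine and_congr_right fun _ => ⟨fun hx => ?_, fun hx => ?_⟩
    · simpa using B.rad_conj _ (inv_mem h.2) _ hx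
    · simpa [mul_assoc] using B.rad_conj _ h.2 _ hx
  have e2 : (D.V ⊓ (Rad z).map (MulAut.conj g).toMonoidHom : Subgroup G) =
      (A ⊓ Rad z).map (MulAut.conj g).toMonoidHom := by
    ext x
    rw [conj_eq_map, mem_inf, mem_inf, conj_eq_map, hA, conj_eq_map]
    rw [show g⁻¹⁻¹ * (g⁻¹ * x * g) * g⁻¹ = x by group]
  rw [e2, Subgroup.card_map_of_injective (MulAut.conj _).injective, ← B.card_V_rad F D, e1,
    Subgroup.card_map_of_injective (MulAut.conj _).injective]

include B in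
theorem proj_ne {t : G} (ht : t ∈ CP z P) (h2 : t * t = 1) (h1 : t ≠ 1) (hz : t ≠ z) :
    B.proj ⟨t, ht.1⟩ ≠ 1 := by
  intro h
  obtain ⟨p, hp, rfl | rfl⟩ := B.ker_C ht h
  · have := Subgroup.orderOf_dvd_natCard _ hp
    rw [orderOf_eq_prime (p := 2) (by rw [pow_two, h2]) h1, B.card_p] at this
    norm_num at this
  · have h3 : p * p = 1 := by
      rw [show z * p * (z * p) = z * z * (p * p) by
        rw [mul_assoc z p, ← mul_assoc p z, ← B.comm_p B.z_mem_C hp]; group, B.zz, one_mul] at h2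
      exact h2
    have hp1 : p ≠ 1 := fun e => hz (by rw [e, mul_one])
    have := Subgroup.orderOf_dvd_natCard _ hp
    rw [orderOf_eq_prime (p := 2) (by rw [pow_two, h3]) hp1, B.card_p] at this
    norm_num at this

include B F in
/-- An involution of `C_H(P)` is conjugate up to the centre to any other. -/
theorem conj_invol {s t : G} (hs : s ∈ CP z P) (ht : t ∈ CP z P) (hs2 : s * s = 1) (ht2 : t * t = 1)
    (hs1 : s ≠ 1) (hsz : s ≠ z) (ht1 : t ≠ 1) (htz : t ≠ z) :
    ∃ c ∈ CP z P, t = c * s * c⁻¹ ∨ t = c * s * c⁻¹ * z := by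
  have ho : ∀ u, ∀ hu : u ∈ CP z P, u * u = 1 → B.proj ⟨u, hu.1⟩ ≠ 1 →
      orderOf (B.proj ⟨u, hu.1⟩) = 2 := fun u hu h2 h1 => by
    refine orderOf_eq_prime ?_ h1
    rw [← map_pow, show (⟨u, hu.1⟩ : ↥(Cen z)) ^ 2 = 1 from Subtype.ext (by simp [pow_two, h2]),
      map_one]
  obtain ⟨φ, hφ, hconj⟩ := inn_conj_two (B.inn_of_mem_C F hs) (B.inn_of_mem_C F ht)
    (ho s hs hs2 (B.proj_ne hs hs2 hs1 hsz)) (ho t ht ht2 (B.proj_ne ht ht2 ht1 htz))
  obtain ⟨c, hc, rfl⟩ := B.exists_C F hφ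
  refine ⟨c, hc, ?_⟩
  have hk : B.proj ⟨(c * s * c⁻¹)⁻¹ * t,
      mul_mem (inv_mem (mul_mem (mul_mem hc.1 hs.1) (inv_mem hc.1))) ht.1⟩ = 1 := by
    rw [show (⟨(c * s * c⁻¹)⁻¹ * t, _⟩ : ↥(Cen z)) =
      ((⟨c, hc.1⟩ : ↥(Cen z)) * ⟨s, hs.1⟩ * (⟨c, hc.1⟩ : ↥(Cen z))⁻¹)⁻¹ * ⟨t, ht.1⟩ from rfl,
      map_mul, map_inv, map_mul, map_mul, map_inv, hconj, inv_mul_cancel]
  have hu : c * s * c⁻¹ ∈ CP z P := mul_mem (mul_mem hc hs) (inv_mem hc)
  have hu2 : c * s * c⁻¹ * (c * s * c⁻¹) = 1 := by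
    rw [show c * s * c⁻¹ * (c * s * c⁻¹) = c * (s * s) * c⁻¹ by group, hs2, mul_one, mul_inv_cancel]
  obtain ⟨p, hp, e⟩ := B.ker_C (mul_mem (inv_mem hu) ht) hk
  have hw : ∀ w, w ∈ CP z P → (∀ y ∈ CP z P, y * w = w * y) → t = c * s * c⁻¹ * w → w * w = 1 := by
    intro w hw hwc e
    rw [e] at ht2
    calc w * w = (c * s * c⁻¹ * (c * s * c⁻¹)) * (w * w) := by rw [hu2, one_mul]
      _ = c * s * c⁻¹ * (c * s * c⁻¹ * w) * w := by group
      _ = c * s * c⁻¹ * (w * (c * s * c⁻¹)) * w := by rw [hwc _ hu]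
      _ = 1 := by rw [← ht2]; group
  rcases e with e | e
  · have e' : t = c * s * c⁻¹ * p := by rw [← e, mul_inv_cancel_left]
    have h2 := hw p (B.p_le_C hp) (fun y hy => B.comm_p hy hp) e'
    left
    have h3 : p ^ 3 = 1 := by
      have := congrArg Subtype.val (pow_card_eq_one' (x := (⟨p, hp⟩ : P)))
      rwa [B.card_p] at this
    rw [pow_succ, pow_two, h2, one_mul] at h3
    rw [e', h3, mul_one]
  · have e' : t = c * s * c⁻¹ * (z * p) := by rw [← e, mul_inv_cancel_left]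
    have h2 := hw (z * p) (mul_mem B.z_mem_C (B.p_le_C hp))
      (fun y hy => by rw [← mul_assoc, B.comm_z hy.1, mul_assoc, B.comm_p hy hp, mul_assoc]) e'
    have h2' : p * p = 1 := by
      rw [show z * p * (z * p) = z * z * (p * p) by
        rw [mul_assoc z p, ← mul_assoc p z, ← B.comm_p B.z_mem_C hp]; group, B.zz, one_mul] at h2
      exact h2
    have h3 : p ^ 3 = 1 := by
      have := congrArg Subtype.val (pow_card_eq_one' (x := (⟨p, hp⟩ : P)))
      rwa [B.card_p] at this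
    rw [pow_succ, pow_two, h2', one_mul] at h3
    right
    rw [e', h3, mul_one]

set_option maxHeartbeats 1000000 in
include B F in
/-- The key lemma. -/
theorem moves (D : VData F) {g : G} (hV : g * z * g⁻¹ ∈ D.V)
    (hP : g * z * g⁻¹ ∈ centralizer (P : Set G)) (hne : g * z * g⁻¹ ≠ z) :
    ∃ e ∈ Rad z, e ≠ 1 ∧ e ≠ z ∧ g * e * g⁻¹ ∈ centralizer (P : Set G) := by
  by_contra hcon
  push Not at hcon
  set j := g * z * g⁻¹ with hj
  have hj1 : j ≠ 1 := fun e => B.z_ne_one (conj_eq_one_iff.1 e)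
  have hjC : j ∈ CP z P := ⟨D.le_cen hV, hP⟩
  set E' := (Rad z).map (MulAut.conj g).toMonoidHom with hE'
  set W := D.V ⊓ E' with hW
  have hfixW : ∀ w ∈ W, w ∈ centralizer (P : Set G) → w = 1 ∨ w = j := by
    intro w hw hwc
    obtain ⟨e, he, rfl⟩ := hw.2
    by_contra h
    push Not at h
    refine hcon e he (fun e1 => h.1 (by rw [e1]; exact map_one _)) (fun e1 => h.2 (by rw [e1]; rfl))
      hwc
  have hzW : z ∉ W := fun hz => by
    rcases hfixW z hz B.z_comm_p with e | e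
    · exact B.z_ne_one e
    · exact hne e.symm
  obtain ⟨p, hp, hpm⟩ := F.mat_scalar
  have hPz : ∀ x : G, x * p = p * x → x ∈ centralizer (P : Set G) := by
    obtain ⟨q, hqo, hPq⟩ := B.exists_gen
    have hpne : p ≠ 1 := fun e => by
      rw [e, (F.mat_eq_id 1 (one_mem _)).2 (one_mem _)] at hpm
      exact absurd hpm (by decide)
    have hpo : orderOf p = 3 := by
      have := Subgroup.orderOf_dvd_natCard _ hp
      rw [B.card_p] at this
      rcases (Nat.dvd_prime Nat.prime_three).1 this with h | h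
      · exact absurd (orderOf_eq_one_iff.1 h) hpne
      · exact h
    have hPp : P = zpowers p := (Subgroup.eq_of_le_of_card_ge (zpowers_le.2 hp)
      (by rw [B.card_p, Nat.card_zpowers, hpo])).symm
    intro x hx
    rw [mem_centralizer_iff]
    intro y hy
    rw [hPp] at hy
    obtain ⟨k, rfl⟩ := hy
    exact ((show Commute x p from hx).zpow_right k).eq.symm
  have hpH := B.p_le hp
  have hpj : j * p = p * j := B.comm_p hjC hp
  -- the commutator map with the scalar
  let φ : ↥W →* G :=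
    { toFun := fun w => p * w * p⁻¹ * (w : G)⁻¹
      map_one' := by simp
      map_mul' := fun a b => by
        have hb' : p * (b : G) * p⁻¹ * (b : G)⁻¹ ∈ D.V :=
          mul_mem ((mem_normalizer_iff.1 (D.norm_P hp) _).1 b.2.1) (inv_mem b.2.1)
        calc p * ((a : G) * b) * p⁻¹ * ((a : G) * b)⁻¹
            = p * a * p⁻¹ * ((p * b * p⁻¹ * (b : G)⁻¹) * (a : G)⁻¹) := by group
          _ = p * a * p⁻¹ * ((a : G)⁻¹ * (p * b * p⁻¹ * (b : G)⁻¹)) := by
            rw [V_comm D hb' (inv_mem a.2.1)]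
          _ = p * a * p⁻¹ * (a : G)⁻¹ * (p * b * p⁻¹ * (b : G)⁻¹) := by group }
  have hker : Nat.card φ.ker ≤ 2 := by
    have hs : ∀ x : φ.ker, ((x : W) : G) = 1 ∨ ((x : W) : G) = j := fun x => by
      refine hfixW _ (x : W).2 (hPz _ ?_)
      have : p * ((x : W) : G) * p⁻¹ * ((x : W) : G)⁻¹ = 1 := x.2
      rw [mul_inv_eq_one, mul_inv_eq_iff_eq_mul] at this
      exact this.symm
    classical
    let q : φ.ker → Bool := fun x => decide (((x : W) : G) = 1)
    have hq : Function.Injective q := fun x y e => by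
      refine Subtype.ext (Subtype.ext ?_)
      have e' : (((x : W) : G) = 1 ↔ ((y : W) : G) = 1) := decide_eq_decide.1 e
      rcases hs x with hx | hx <;> rcases hs y with hy | hy
      · rw [hx, hy]
      · exact absurd (e'.1 hx) (hy ▸ hj1)
      · exact absurd (e'.2 hy) (hx ▸ hj1)
      · rw [hx, hy]
    simpa using Nat.card_le_card_of_injective q hq
  have hWc : Nat.card W = 128 := B.card_conj_V_rad F D hV
  have hrange : 64 ≤ Nat.card φ.range := by
    have h1 := Subgroup.card_eq_card_quotient_mul_card_subgroup φ.ker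
    rw [Nat.card_congr (QuotientGroup.quotientKerEquivRange φ).toEquiv, hWc] at h1
    nlinarith
  have hjH : j ∈ Cen z := hjC.1
  have hmemE' : ∀ x, x ∈ E' ↔ g⁻¹ * x * g ∈ Rad z := fun x => conj_eq_map g
  have hnormE' : ∀ x, x * j = j * x → ∀ u ∈ E', x * u * x⁻¹ ∈ E' := by
    intro x hx u hu
    rw [hmemE'] at hu ⊢
    have hxH : g⁻¹ * x * g ∈ Cen z := B.mem_cen.2 (by
      calc g⁻¹ * x * g * z = g⁻¹ * (x * j) * g := by rw [hj]; group
        _ = g⁻¹ * (j * x) * g := by rw [hx]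
        _ = z * (g⁻¹ * x * g) := by rw [hj]; group)
    have := B.rad_conj _ hxH _ hu
    rwa [show g⁻¹ * x * g * (g⁻¹ * u * g) * (g⁻¹ * x * g)⁻¹ = g⁻¹ * (x * u * x⁻¹) * g by group]
      at this
  have hUprop : ∀ u ∈ φ.range, u ∈ W ∧ u ∈ Rad z := by
    rintro _ ⟨w, rfl⟩
    have h1 : p * (w : G) * p⁻¹ ∈ E' := hnormE' p hpj.symm _ w.2.2
    have h2 : p * (w : G) * p⁻¹ * (w : G)⁻¹ ∈ D.V :=
      mul_mem ((mem_normalizer_iff.1 (D.norm_P hp) _).1 w.2.1) (inv_mem w.2.1)
    refine ⟨⟨h2, E'.mul_mem h1 (E'.inv_mem w.2.2)⟩, ?_⟩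
    -- it lies in the kernel and squares to one
    set u := p * (w : G) * p⁻¹ * (w : G)⁻¹ with hu
    have huH : u ∈ Cen z := D.le_cen h2
    have hk : B.proj ⟨u, huH⟩ = 1 := by
      rw [show (⟨u, huH⟩ : ↥(Cen z)) = (⟨p, hpH⟩ : ↥(Cen z)) * ⟨w, D.le_cen w.2.1⟩ *
        (⟨p, hpH⟩ : ↥(Cen z))⁻¹ * (⟨w, D.le_cen w.2.1⟩ : ↥(Cen z))⁻¹ from rfl, map_mul, map_mul,
        map_mul, map_inv, map_inv, B.proj_p hp, one_mul, inv_one, mul_one, mul_inv_cancel]
    obtain ⟨e, he, q, hq, heq⟩ := (B.ker _).1 hk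
    simp only at heq
    have hqq : q * q ∈ Rad z := by
      have hsq := V_sq D h2
      rw [heq] at hsq
      have h3 : e * (q * e * q⁻¹) * (q * q) = 1 := by rw [← hsq]; group
      rw [eq_inv_of_mul_eq_one_right h3]
      exact inv_mem (mul_mem he (B.rad_conj q (B.p_le hq) e he))
    have h4 : q * q = 1 := B.rad_inf_p _ hqq (mul_mem hq hq)
    have h5 : q ^ 3 = 1 := by
      have := congrArg Subtype.val (pow_card_eq_one' (x := (⟨q, hq⟩ : P)))
      rwa [B.card_p] at this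
    rw [pow_succ, pow_two, h4, one_mul] at h5
    show u ∈ Rad z
    rw [heq, h5, mul_one]; exact he
  have hall : ∀ v < 64, ∃ u ∈ φ.range, F.co u = v := by
    intro v hv
    have hinj : Set.InjOn F.co (φ.range : Set G) := by
      intro a ha b hb e
      rcases B.co_eq F (hUprop a ha).2 (hUprop b hb).2 e with h | h
      · exact h
      · exact absurd (h ▸ (hUprop a ha).1) (fun h' => hzW (by
          simpa using mul_mem (inv_mem (hUprop b hb).1) h'))
    have hsub : F.co '' (φ.range : Set G) ⊆ Set.Iio 64 := by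
      rintro _ ⟨u, hu, rfl⟩
      exact (D.rad u (hUprop u hu).2).1 (hUprop u hu).1.1
    have heq := Set.eq_of_subset_of_ncard_le hsub (by
      rw [hinj.ncard_image, ← Nat.card_coe_set_eq, ← Nat.card_coe_set_eq,
        show Nat.card (Set.Iio 64) = 64 by simp]
      exact hrange) (Set.finite_Iio 64)
    obtain ⟨u, hu, e⟩ := (heq.symm ▸ hv : v ∈ F.co '' (φ.range : Set G))
    exact ⟨u, hu, e⟩
  have hlow : ∀ x ∈ Rad z, F.co (j * x * j⁻¹) = F.co x → F.co x < 64 := by
    intro x hx hfx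
    -- it commutes with `j`
    have hxj : x * j = j * x := by
      have hlt := F.co_lt x hx
      obtain ⟨y, hy, hyc⟩ := F.co_surj _ (F.co_lt _ (B.rad_conj p hpH x hx))
      set e := p * y * p⁻¹ * y⁻¹ with he
      have heR : e ∈ Rad z := mul_mem (B.rad_conj p hpH y hy) (inv_mem hy)
      have hey : F.co y = mv pOm (F.co x) := by rw [hyc, F.conj p hpH x hx, hpm]
      have hec : F.co e = F.co x := by
        rw [he, F.co_mul _ (B.rad_conj p hpH y hy) _ (inv_mem hy), co_inv F hy, F.conj p hpH y hy,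
          hpm, hey]
        exact Nat.eq_of_beq_eq_true
          (List.all_eq_true.1 Three.omega_solve _ (List.mem_range.2 hlt))
      have hjy : F.co (j * y * j⁻¹) = F.co y := by
        rw [F.conj j hjH y hy, hyc, ← F.conj j hjH _ (B.rad_conj p hpH x hx),
          show j * (p * x * p⁻¹) * j⁻¹ = p * (j * x * j⁻¹) * p⁻¹ by
            calc j * (p * x * p⁻¹) * j⁻¹ = j * p * x * (p⁻¹ * j⁻¹) := by group
              _ = p * j * x * (p⁻¹ * j⁻¹) := by rw [hpj]
              _ = p * j * x * (j⁻¹ * p⁻¹) := by rw [← mul_inv_rev, hpj, mul_inv_rev]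
              _ = p * (j * x * j⁻¹) * p⁻¹ := by group,
          F.conj p hpH _ (B.rad_conj j hjH x hx), hfx, F.conj p hpH x hx]
      have hje : j * e * j⁻¹ = e := by
        have hpj' : j * p * j⁻¹ = p := by rw [hpj, mul_inv_cancel_right]
        have h1 : j * e * j⁻¹ = (j * p * j⁻¹) * (j * y * j⁻¹) * (j * p * j⁻¹)⁻¹ * (j * y * j⁻¹)⁻¹ := by
          rw [he]; group
        rw [h1, hpj']
        rcases B.co_eq F (B.rad_conj j hjH y hy) hy hjy with h | h
        · rw [h, he]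
        · rw [h, he, mul_inv_rev, B.z_inv]
          calc p * (y * z) * p⁻¹ * (z * y⁻¹) = p * y * (z * p⁻¹) * (z * y⁻¹) := by group
            _ = p * y * (p⁻¹ * z) * (z * y⁻¹) := by
              rw [((show Commute z p from B.comm_p B.z_mem_C hp).inv_right).eq]
            _ = p * y * p⁻¹ * (z * z) * y⁻¹ := by group
            _ = p * y * p⁻¹ * y⁻¹ := by rw [B.zz, mul_one]
      have hej : Commute e j := (mul_inv_eq_iff_eq_mul.1 hje).symm
      rcases B.co_eq F hx heR hec.symm with h | h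
      · rw [h]; exact hej.eq
      · rw [h]; exact (hej.mul_left (B.comm_z hjH).symm).eq
    -- so it is orthogonal to the plane
    by_contra hge
    have hpu := List.all_eq_true.1 Three.perp_upper (F.co x) (List.mem_range.2 (F.co_lt x hx))
    rcases (Bool.or_eq_true _ _).mp hpu with hp' | hp'
    · exact hge (Nat.le_of_ble_eq_true hp')
    obtain ⟨i, hi, hb⟩ := List.any_eq_true.1 hp'
    obtain ⟨u, hu, huc⟩ := hall (Nat.shiftLeft 1 i) (by
      have : i < 6 := List.mem_range.1 hi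
      interval_cases i <;> decide)
    have huR := (hUprop u hu).2
    have hcomm : x * u = u * x := by
      have hcE : x * u * x⁻¹ * u⁻¹ ∈ E' :=
        mul_mem (hnormE' x hxj _ (hUprop u hu).1.2) (inv_mem (hUprop u hu).1.2)
      have hcR : x * u * x⁻¹ * u⁻¹ ∈ Rad z :=
        mul_mem (mul_mem (mul_mem hx huR) (inv_mem hx)) (inv_mem huR)
      have h0 : F.co (x * u * x⁻¹ * u⁻¹) = 0 := by
        rw [F.co_mul _ (mul_mem (mul_mem hx huR) (inv_mem hx)) _ (inv_mem huR),
          F.co_mul _ (mul_mem hx huR) _ (inv_mem hx), F.co_mul _ hx _ huR, co_inv F hx, co_inv F huR,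
          Nat.xor_comm (F.co x) (F.co u), Nat.xor_assoc, Nat.xor_assoc, ← Nat.xor_assoc (F.co x),
          Nat.xor_self, Nat.zero_xor, Nat.xor_self]
      rcases (F.co_eq_zero _ hcR).1 h0 with h | h
      · rwa [mul_inv_eq_one, mul_inv_eq_iff_eq_mul] at h
      · exact absurd ⟨D.z_mem, h ▸ hcE⟩ hzW
    have hb0 : bF (F.co x) (F.co u) = false := by
      have h1 := F.sq (x * u) (mul_mem hx huR)
      rw [F.co_mul x hx u huR, show x * u * (x * u) = (x * x) * (u * u) by
        rw [mul_assoc x u, ← mul_assoc u x, ← hcomm]; group, F.sq x hx, F.sq u huR] at h1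
      rw [bF, sign_mul B.z_ne_one B.zz h1.symm, Bool.xor_self]
    rw [huc] at hb0
    rw [hb0] at hb
    exact Bool.false_ne_true hb
  -- count the fixed vectors
  obtain ⟨u0, ⟨hu0V, hu0P⟩, hu0m⟩ := D.upper
  have hu0C : u0 ∈ CP z P := ⟨D.le_cen hu0V, hu0P⟩
  have hu0R : u0 ∉ Rad z := fun h => by
    have h1 := hu0m.symm.trans ((F.mat_eq_id u0 hu0C.1).2 h)
    exact absurd h1 (by decide)
  obtain ⟨c, hc, hcj⟩ := B.conj_invol F hu0C hjC (V_sq D hu0V) (V_sq D hV)
    (fun e => hu0R (e ▸ one_mem _)) (fun e => hu0R (e ▸ B.z_rad)) hj1 hne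
  set L := (List.range 4096).filter fun v => Nat.beq (mv qU v) v with hL
  have hmaps : ∀ v ∈ L, mv (F.mat c) v < 64 ∧ mv (F.mat c⁻¹) (mv (F.mat c) v) = v := by
    intro v hv
    simp only [hL, List.mem_filter, List.mem_range, Nat.beq_eq] at hv
    obtain ⟨x, hx, hxc⟩ := F.co_surj v hv.1
    have hx' := B.rad_conj c hc.1 x hx
    have e : F.co (c * x * c⁻¹) = mv (F.mat c) v := by rw [F.conj c hc.1 x hx, hxc]
    refine ⟨e ▸ hlow _ hx' ?_, ?_⟩
    · have hj' : j * (c * x * c⁻¹) * j⁻¹ = c * (u0 * x * u0⁻¹) * c⁻¹ := by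
        rcases hcj with h | h
        · rw [h]; group
        · rw [h, mul_inv_rev, B.z_inv]
          calc c * u0 * c⁻¹ * z * (c * x * c⁻¹) * (z * (c * u0 * c⁻¹)⁻¹)
              = c * u0 * c⁻¹ * (z * (c * x * c⁻¹)) * z * (c * u0 * c⁻¹)⁻¹ := by group
            _ = c * u0 * c⁻¹ * (c * x * c⁻¹ * z) * z * (c * u0 * c⁻¹)⁻¹ := by
              rw [B.comm_z (B.rad_le hx')]
            _ = c * u0 * c⁻¹ * (c * x * c⁻¹) * (z * z) * (c * u0 * c⁻¹)⁻¹ := by group
            _ = c * (u0 * x * u0⁻¹) * c⁻¹ := by rw [B.zz]; group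
      rw [hj', F.conj c hc.1 _ (B.rad_conj u0 hu0C.1 x hx), F.conj u0 hu0C.1 x hx, hu0m, hxc, hv.2, e]
    · rw [← e, ← F.conj _ (inv_mem hc.1) _ hx',
        show c⁻¹ * (c * x * c⁻¹) * c⁻¹⁻¹ = x by group, hxc]
  have hnd : (L.map (mv (F.mat c))).Nodup :=
    (List.nodup_range.filter _).map_on fun a ha b hb e => by
      rw [← (hmaps a ha).2, ← (hmaps b hb).2, e]
  have hle : (L.map (mv (F.mat c))).length ≤ 64 := by
    have hsub : (L.map (mv (F.mat c))) ⊆ List.range 64 := fun a ha => by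
      obtain ⟨v, hv, rfl⟩ := List.mem_map.1 ha
      exact List.mem_range.2 (hmaps v hv).1
    simpa using (hnd.subperm hsub).length_le
  rw [List.length_map] at hle
  exact absurd Three.fixed_upper (not_lt.2 (hL ▸ hle))

end Base

end CfsgLib.J4Type.CoreP
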